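import Cfsg.Agent.MaxNorm.Flip
import Cfsg.Agent.ZStar.Theorem
import Cfsg.Agent.BrauerSuzukiWall.SplitPlus
import Cfsg.Agent.BrauerSuzukiWall.SplitMinus
import Cfsg.Agent.BrauerSuzukiWall.SmallK
import Cfsg.Agent.BrauerSuzukiWall.Recognition
import Cfsg.Agent.S0111
import Cfsg.Agent.S0205
import Cfsg.Agent.CommutingSLTwo.Basic
import Cfsg.Agent.TwoIndices.SylowInNormal
import Cfsg.Agent.Chars.Apps.Burnside

/-!
A `2`-central involution with non-`2`-group centraliser forces a dihedral centraliser.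
-/

set_option autoImplicit false
set_option linter.style.haveILetI false
set_option linter.unusedSectionVars false

namespace CfsgLib.MaxNorm

open Subgroup CfsgLib.BrauerSuzukiWall

variable {G : Type*} [Group G] [Finite G]

theorem exists_mem_of_two_group_le {S : Sylow 2 G} {z v : G} (hSz : (S : Subgroup G) ≤ Cen z)
    {P : Subgroup G} (hP : IsPGroup 2 P) (hPz : P ≤ Cen z) (hv : v ∈ P) :
    ∃ c : G, c * z = z * c ∧ c * v * c⁻¹ ∈ (S : Subgroup G) := by
  haveI : Fact (Nat.Prime 2) := ⟨Nat.prime_two⟩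
  obtain ⟨R, hR⟩ := (hP.comap_of_injective (Cen z).subtype (Cen z).subtype_injective).exists_le_sylow
  obtain ⟨c, hc⟩ := MulAction.exists_smul_eq (Cen z) R (S.subtype hSz)
  refine ⟨c, mem_cen.mp c.2, ?_⟩
  have h1 : MulAut.conj c • (⟨v, hPz hv⟩ : Cen z) ∈ ((c • R : Sylow 2 (Cen z)) : Subgroup (Cen z)) := by
    rw [Sylow.coe_subgroup_smul]
    exact Subgroup.smul_mem_pointwise_smul _ _ _ (hR hv)
  rw [hc] at h1
  exact h1

theorem mem_sylow_of_two_element_normalizes {S : Sylow 2 G} {n : G} {k : ℕ}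
    (hn : n ∈ Subgroup.normalizer ((S : Subgroup G) : Set G)) (ho : orderOf n = 2 ^ k) :
    n ∈ (S : Subgroup G) := by
  haveI : Fact (Nat.Prime 2) := ⟨Nat.prime_two⟩
  have h := (isPGroup_zpowers (p := 2) ho).to_sup_of_normal_right' S.2 (Subgroup.zpowers_le.mpr hn)
  exact (S.3 h le_sup_right).le (Subgroup.mem_sup_left (Subgroup.mem_zpowers n))

theorem four_dvd_orderOf {s : G} (h2 : s * s * (s * s) = 1) (h1 : s * s ≠ 1) : orderOf s = 4 := by
  haveI : Fact (Nat.Prime 2) := ⟨Nat.prime_two⟩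
  exact orderOf_eq_prime_pow (p := 2) (n := 1) (x := s) (by rwa [pow_one, sq])
    (by rw [show (2 : ℕ) ^ (1 + 1) = 2 + 2 from rfl, pow_add, sq, h2])

variable (hM : MaxNormalizers G) (hR : NoSolvNormal G)
include hM hR

theorem Flip.false_of_quarter {z x u : G} (hF : Flip z x u) {S : Sylow 2 G}
    (hSz : (S : Subgroup G) ≤ Cen z) {s : G} (hs : s * z = z * s)
    (hs2 : s * s * x * (s * s)⁻¹ = x⁻¹) : False := by
  haveI : Fact (Nat.Prime 2) := ⟨Nat.prime_two⟩
  have hz := hF.t_ord
  obtain ⟨hz2, hz1⟩ := orderOf_two hz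
  have hzS : z ∈ (S : Subgroup G) := by
    refine mem_sylow_of_two_element_normalizes (k := 1) ?_ (by rw [hz, pow_one])
    refine Subgroup.mem_normalizer_iff.mpr fun a => ⟨fun ha => ?_, fun ha => ?_⟩
    · rw [← mem_cen.mp (hSz ha), mul_inv_cancel_right]; exact ha
    · have h := mem_cen.mp (hSz ha)
      have h' : z * a * z⁻¹ = a := by
        calc z * a * z⁻¹ = z⁻¹ * (z * (z * a * z⁻¹)) := by group
          _ = z⁻¹ * ((z * a * z⁻¹) * z) := by rw [h]
          _ = a := by group
      rwa [h'] at ha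
  have hSx : ∀ y ∈ (S : Subgroup G), y * x = x * y → y = 1 ∨ y = z := by
    intro y hy hyx
    obtain ⟨k, hk⟩ := IsPGroup.iff_orderOf.mp S.2 ⟨y, hy⟩
    rw [Subgroup.orderOf_mk] at hk
    exact hF.eq_one_or_t_of_quarter hM hR hs hs2 hk hyx
  obtain ⟨s0, hs0, hgen⟩ := hF.exists_generator hM hR hSz hSx
  have hs0z : s0 * z = z * s0 := mem_cen.mp (hSz hs0)
  -- `u` has a conjugate in `S`
  have hpu := isPGroup_zpowers (p := 2) (k := 1) (y := u) (by rw [hF.u_ord, pow_one])
  obtain ⟨c, hcz, hcS⟩ := exists_mem_of_two_group_le hSz hpu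
    (Subgroup.zpowers_le.mpr (mem_cen.mpr hF.u_comm)) (Subgroup.mem_zpowers u)
  set u' := c * u * c⁻¹
  have hu'2 : orderOf u' = 2 :=
    (orderOf_injective (MulAut.conj c).toMonoidHom (MulAut.conj c).injective u).trans hF.u_ord
  have hu'z : u' ≠ z := fun e => hF.u_moves (by
    have : u = z := by
      have h1 : c⁻¹ * u' * c = c⁻¹ * z * c := by rw [e]
      rwa [show c⁻¹ * u' * c = u by simp [u', mul_assoc], mul_assoc, ← hcz, inv_mul_cancel_left] at h1
    rw [this, hF.x_comm])
  -- `z` is not a power of `s0`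
  have hzs0 : z ∉ Subgroup.zpowers s0 := by
    intro hz0
    obtain ⟨k, hk⟩ := IsPGroup.iff_orderOf.mp S.2 ⟨s0, hs0⟩
    rw [Subgroup.orderOf_mk] at hk
    have h1 := commute_of_mem_zpowers hM hR hz hk hz0 hF.x_odd hF.x_comm
    have h3 : u' = 1 ∨ u' = z := by
      obtain ⟨i, hi⟩ := hgen u' hcS
      refine hSx u' hcS ?_
      have hc1 : Commute (s0 ^ i) x := (show Commute s0 x from h1).zpow_left i
      rcases hi with e | e <;> rw [e]
      · exact hc1.eq
      · exact (hc1.mul_left (show Commute z x from hF.x_comm.symm)).eq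
    rcases h3 with e | e
    · exact (orderOf_two hu'2).2 e
    · exact hu'z e
  have hab : ∀ a ∈ (S : Subgroup G), ∀ b ∈ (S : Subgroup G), a * b = b * a := by
    intro a ha b hb
    have hc1 : ∀ i j : ℤ, Commute (s0 ^ i) (s0 ^ j) := fun i j => Commute.zpow_zpow (Commute.refl s0) i j
    have hc2 : ∀ i : ℤ, Commute (s0 ^ i) z := fun i => (show Commute s0 z from hs0z).zpow_left i
    obtain ⟨i, hi⟩ := hgen a ha
    obtain ⟨j, hj⟩ := hgen b hb
    rcases hi with rfl | rfl <;> rcases hj with rfl | rfl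
    · exact (hc1 i j).eq
    · exact ((hc1 i j).mul_right (hc2 i)).eq
    · exact ((hc1 i j).mul_left (hc2 j).symm).eq
    · exact (((hc1 i j).mul_left (hc2 j).symm).mul_right
        ((hc2 i).mul_left (Commute.refl z))).eq
  haveI : IsMulCommutative (S : Subgroup G) :=
    ⟨⟨fun a b => Subtype.ext (hab a a.2 b b.2)⟩⟩
  -- squares in `S` lie in `<s0>`
  have hsq : ∀ y ∈ (S : Subgroup G), y * y ∈ Subgroup.zpowers s0 := by
    intro y hy
    obtain ⟨i, hi⟩ := hgen y hy
    rcases hi with rfl | rfl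
    · exact mul_mem (Subgroup.zpow_mem_zpowers _ _) (Subgroup.zpow_mem_zpowers _ _)
    · rw [show s0 ^ i * z * (s0 ^ i * z) = s0 ^ i * (z * s0 ^ i) * z by group,
        ← ((show Commute s0 z from hs0z).zpow_left i).eq,
        show s0 ^ i * (s0 ^ i * z) * z = s0 ^ i * s0 ^ i * (z * z) by group, hz2, mul_one]
      exact mul_mem (Subgroup.zpow_mem_zpowers _ _) (Subgroup.zpow_mem_zpowers _ _)
  -- some element of order four lies in `S`
  have hss : orderOf s = 4 := by
    refine four_dvd_orderOf ?_ fun e => hF.x_ne_inv (by simpa [e] using hs2.symm)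
    refine hF.sq_one_of_inverts hM hR ?_ hs2
    rw [mul_assoc, hs, ← mul_assoc, hs, mul_assoc]
  have hps := isPGroup_zpowers (p := 2) (k := 2) (y := s) (by rw [hss]; norm_num)
  obtain ⟨d, hdz, hdS⟩ := exists_mem_of_two_group_le hSz hps
    (Subgroup.zpowers_le.mpr (mem_cen.mpr hs)) (Subgroup.mem_zpowers s)
  set q := d * s * d⁻¹
  have hq4 : orderOf q = 4 :=
    (orderOf_injective (MulAut.conj d).toMonoidHom (MulAut.conj d).injective s).trans hss
  set z0 := q * q with hz0def
  have hz02 : orderOf z0 = 2 := by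
    rw [hz0def, ← sq, orderOf_pow_of_dvd two_ne_zero (by rw [hq4]; norm_num), hq4]
  have hz0s : z0 ∈ Subgroup.zpowers s0 := hsq q hdS
  have hz0z : z0 ≠ z := fun e => hzs0 (e ▸ hz0s)
  -- the involutions of `S`
  have hinv : ∀ v ∈ (S : Subgroup G), orderOf v = 2 → v = z ∨ v = z0 ∨ v = z0 * z := by
    intro v hv hv2
    obtain ⟨hv1, hv0⟩ := orderOf_two hv2
    obtain ⟨i, hi⟩ := hgen v hv
    have key : ∀ w : G, w ∈ Subgroup.zpowers s0 → w * w = 1 → w = 1 ∨ w = z0 := fun w hw hw2 => by
      by_cases hw1 : w = 1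
      · exact Or.inl hw1
      · exact Or.inr (eq_of_involutions_mem_zpowers hz02 (orderOf_eq_prime (by rw [sq, hw2]) hw1)
          hz0s hw)
    rcases hi with e | e
    · rcases key v (e ▸ Subgroup.zpow_mem_zpowers _ _) hv1 with h | h
      · exact absurd h hv0
      · exact Or.inr (Or.inl h)
    · have hc := ((show Commute s0 z from hs0z).zpow_left i)
      have h2 : s0 ^ i * s0 ^ i = 1 := by
        rw [e, show s0 ^ i * z * (s0 ^ i * z) = s0 ^ i * (z * s0 ^ i) * z by group, ← hc.eq,
          show s0 ^ i * (s0 ^ i * z) * z = s0 ^ i * s0 ^ i * (z * z) by group, hz2, mul_one] at hv1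
        exact hv1
      rcases key _ (Subgroup.zpow_mem_zpowers _ i) h2 with h | h
      · exact Or.inl (by rw [e, h, one_mul])
      · exact Or.inr (Or.inr (by rw [e, h]))
  -- fusion is controlled by `N(S)`
  obtain ⟨g, hg⟩ := isConj_iff.mp hF.u_conj
  have hgu : (c * g) * z * (c * g)⁻¹ = u' := by
    rw [show u' = c * (g * z * g⁻¹) * c⁻¹ by rw [hg]]; group
  obtain ⟨n, hn, hne⟩ := S.conj_eq_normalizer_conj_of_mem z (c * g)⁻¹ hzS
    (by rw [inv_inv, hgu]; exact hcS)
  rw [inv_inv, hgu] at hne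
  set m := n⁻¹
  have hm : m ∈ Subgroup.normalizer ((S : Subgroup G) : Set G) := inv_mem hn
  have hmz : m * z * m⁻¹ = u' := by rw [hne, inv_inv]
  have hmS : ∀ a ∈ (S : Subgroup G), m * a * m⁻¹ ∈ (S : Subgroup G) := fun a ha =>
    (Subgroup.mem_normalizer_iff.mp hm a).mp ha
  have hm0 : m * z0 * m⁻¹ = z0 := by
    refine eq_of_involutions_mem_zpowers hz02
      ((orderOf_injective (MulAut.conj m).toMonoidHom (MulAut.conj m).injective z0).trans hz02)
      hz0s ?_
    rw [hz0def, show m * (q * q) * m⁻¹ = m * q * m⁻¹ * (m * q * m⁻¹) by group]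
    exact hsq _ (hmS q hdS)
  have hu'v : u' = z0 * z := by
    rcases hinv u' hcS hu'2 with h | h | h
    · exact absurd h hu'z
    · exfalso
      refine hz0z ?_
      have h1 : m⁻¹ * (m * z0 * m⁻¹) * m = m⁻¹ * (m * z * m⁻¹) * m := by rw [hm0, hmz, h]
      simpa [mul_assoc] using h1
    · exact h
  have hz00 : z0 * z0 = 1 := (orderOf_two hz02).1
  have hmu : m * u' * m⁻¹ = z := by
    rw [hu'v, show m * (z0 * z) * m⁻¹ = m * z0 * m⁻¹ * (m * z * m⁻¹) by group, hm0, hmz, hu'v,
      ← mul_assoc, hz00, one_mul]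
  have hmm : m * m * z = z * (m * m) := by
    refine mul_inv_eq_iff_eq_mul.mp ?_
    calc m * m * z * (m * m)⁻¹ = m * (m * z * m⁻¹) * m⁻¹ := by group
      _ = z := by rw [hmz, hmu]
  obtain ⟨k, b, hb, he⟩ := Nat.exists_eq_two_pow_mul_odd (orderOf_pos m).ne'
  have hm2 : m ^ b ∈ (S : Subgroup G) := by
    refine mem_sylow_of_two_element_normalizes (k := k) (pow_mem hm b) ?_
    rw [orderOf_pow_of_dvd (Nat.ne_of_odd_add (n := b) (m := 0) (by simpa using hb) ·.symm)
      (he ▸ dvd_mul_left _ _), he, Nat.mul_div_cancel _ hb.pos]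
  obtain ⟨j, rfl⟩ := hb
  have h1 := mem_cen.mp (hSz hm2)
  have h2 : Commute ((m * m) ^ j) z := (show Commute (m * m) z from hmm).pow_left j
  have h3 : Commute m z := by
    have e : m = ((m * m) ^ j)⁻¹ * m ^ (2 * j + 1) := by
      rw [← sq, ← pow_mul, pow_succ]; group
    rw [e]
    exact h2.inv_left.mul_left h1
  exact hu'z (by rw [← hmz, h3.eq, mul_inv_cancel_right])

/-- In that configuration `T` is `PSL(2, F)`. -/
theorem psl_of_central {T : Subgroup G} [T.Normal] [IsSimpleGroup T]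
    (hTns : ¬ Group.IsSolvable T) {z x : G} (hz : orderOf z = 2) (hzT : z ∈ T) {S : Sylow 2 G}
    (hSz : (S : Subgroup G) ≤ Cen z) (hx : (orderOf x).Prime) (hxo : Odd (orderOf x))
    (hxz : x * z = z * x) :
    ∃ (F : Type) (_ : Field F) (_ : Fintype F), Odd (Fintype.card F) ∧ 5 ≤ Fintype.card F ∧
      Nonempty (T ≃* Matrix.ProjectiveSpecialLinearGroup (Fin 2) F) := by
  classical
  haveI : Fact (Nat.Prime 2) := ⟨Nat.prime_two⟩
  -- a conjugate of `z` moves `x`
  obtain ⟨g, hgc, hgne⟩ : ∃ g, Commute z (g * z * g⁻¹) ∧ g * z * g⁻¹ ≠ z := by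
    by_contra hno
    push Not at hno
    have hZ := CfsgLib.ZStar.inZStar_of_isolated hz hno
    have hO : Cfsg.pPrimeCore 2 G = ⊥ := by
      refine hR _ inferInstance (Cfsg.Agent.S0205.result ?_)
      rw [← Nat.not_even_iff_odd, even_iff_two_dvd]
      exact CfsgLib.Constrained.pPrimeCore_not_dvd
    have hc : ∀ g : G, g * z * g⁻¹ = z := fun g => mul_inv_eq_one.mp (by
      have := hZ g; rwa [hO, Subgroup.mem_bot] at this)
    refine (orderOf_two hz).2 ?_
    have hn : (Subgroup.zpowers z).Normal :=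
      ⟨fun a ha g => by
        obtain ⟨i, rfl⟩ := Subgroup.mem_zpowers_iff.mp ha
        rw [← conj_zpow, hc g]
        exact Subgroup.zpow_mem_zpowers _ _⟩
    have := hR _ hn inferInstance
    simpa [Subgroup.zpowers_eq_bot] using this
  set u := g * z * g⁻¹ with hu
  have hu2 : orderOf u = 2 :=
    (orderOf_injective (MulAut.conj g).toMonoidHom (MulAut.conj g).injective z).trans hz
  have humoves : u * x ≠ x * u := fun h => hgne
    (conj_eq_of_cen_eq hM hR hz (cen_eq_of_commute hM hR hz hu2 hx hxo hxz h.symm))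
  have hF : Flip z x u := ⟨hz, hx, hxo, hxz, isConj_iff.mpr ⟨g, rfl⟩, hgc.eq.symm, humoves⟩
  have huT : u ∈ T := (inferInstance : T.Normal).conj_mem z hzT g
  have hlist : ∀ y : G, y * z = z * y → y * x = x * y ∨ u * y * x = x * (u * y) := by
    intro y hy
    rcases hF.list_or_quarter hM hR hy with h | ⟨s, hs, hs2, -⟩
    · exact h
    · exact (hF.false_of_quarter hM hR hSz hs hs2).elim
  -- the data in `T`
  let K : Subgroup T := (Cen x).subgroupOf T
  have hK : ∀ a : T, a ∈ K ↔ (a : G) * x = x * (a : G) := fun a =>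
    Subgroup.mem_subgroupOf.trans mem_cen
  have hzK : (⟨z, hzT⟩ : T) ∈ K := (hK _).mpr hxz.symm
  have hinvK : ∀ a : G, orderOf a = 2 → a * x = x * a → a = z := fun a ha hax =>
    hF.eq_t_of_commute hM hR ha hax
  obtain ⟨S₀, hS₀⟩ := CfsgLib.TwoIndices.exists_sylow_subgroupOf (N := T) S
  have hTcomm : ∀ M : Subgroup T, M.Normal → M.index = 2 → False := by
    intro M hMn hMi
    rcases hMn.eq_bot_or_eq_top with e | e
    · rw [e, Subgroup.index_bot] at hMi
      haveI : Group.IsNilpotent T :=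
        IsPGroup.isNilpotent (IsPGroup.of_card (p := 2) (n := 1) (by rw [hMi, pow_one]))
      exact hTns inferInstance
    · rw [e, Subgroup.index_top] at hMi; omega
  have hconj : ∀ v : T, orderOf v = 2 → IsConj (⟨z, hzT⟩ : T) v := by
    intro v0 hv0
    obtain ⟨P, hP⟩ := (isPGroup_zpowers (p := 2) (k := 1) (y := v0) (by rw [hv0, pow_one])).exists_le_sylow
    obtain ⟨a, ha⟩ := MulAction.exists_smul_eq T P S₀
    set v := a * v0 * a⁻¹ with hv
    have hvS : v ∈ (S₀ : Subgroup T) := by
      rw [← ha, Sylow.coe_subgroup_smul]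
      exact Subgroup.smul_mem_pointwise_smul v0 (MulAut.conj a) _ (hP (Subgroup.mem_zpowers v0))
    have hv2 : orderOf v = 2 :=
      (orderOf_injective (MulAut.conj a).toMonoidHom (MulAut.conj a).injective v0).trans hv0
    refine IsConj.trans ?_ (isConj_iff.mpr ⟨a, rfl⟩ : IsConj v0 v).symm
    by_cases hvK : v ∈ K
    · have h1 : (v : G) = z := hinvK v (by rw [Subgroup.orderOf_coe, hv2]) ((hK v).mp hvK)
      rw [show v = ⟨z, hzT⟩ from Subtype.ext h1]
    have hSc : ∀ y ∈ (S₀ : Subgroup T), (y : G) * z = z * (y : G) := fun y hy => by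
      rw [hS₀, Subgroup.mem_subgroupOf] at hy
      exact mem_cen.mp (hSz hy)
    -- `K` has index two in the Sylow subgroup
    have hrel : (((S₀ : Subgroup T) ⊓ K) : Subgroup T).relIndex (S₀ : Subgroup T) = 2 := by
      refine Subgroup.index_eq_two_iff.mpr ⟨⟨v, hvS⟩, fun b => ?_⟩
      simp only [Subgroup.mem_subgroupOf, Subgroup.mem_inf, SetLike.coe_mem, true_and,
        Subgroup.coe_mul]
      have hb := hlist (b : T) (hSc b b.2)
      have hv' := hlist (v : G) (hSc v hvS)
      have hbv : (((b : T) * v : T) : G) = ((b : T) : G) * (v : G) := rfl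
      by_cases hbK : (b : T) ∈ K
      · refine Or.inr ⟨hbK, fun h => hvK ?_⟩
        have := mul_mem (inv_mem hbK) h.2
        rwa [inv_mul_cancel_left] at this
      · refine Or.inl ⟨⟨mul_mem b.2 hvS, ?_⟩, hbK⟩
        have h1 := hb.resolve_left fun h => hbK ((hK _).mpr h)
        have h2 := hv'.resolve_left fun h => hvK ((hK _).mpr h)
        rw [hK, hbv]
        have huu := (orderOf_two hu2).1
        have h4 : u * (u * (b : T)) * u⁻¹ * x = x * (u * (u * (b : T)) * u⁻¹) :=
          hF.conj_mem_cen hM hR hF.u_comm h1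
        have h5 : ((b : T) : G) * (v : G) = u * (u * (b : T)) * u⁻¹ * (u * (v : G)) := by
          rw [← mul_assoc u u, huu, one_mul]; group
        rw [h5]
        generalize u * (u * ((b : T) : G)) * u⁻¹ = c at h4 ⊢
        rw [mul_assoc, h2, ← mul_assoc, h4, mul_assoc]
    rcases Cfsg.Agent.S0111.result S₀ ((S₀ : Subgroup T) ⊓ K) inf_le_left hrel v hv2 hvS
        (fun h => hvK h.2) with ⟨M, hMn, hMi, -⟩ | ⟨b, hb⟩
    · exact (hTcomm M hMn hMi).elim
    · have h1 : ((b * v * b⁻¹ : T) : G) = z :=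
        hinvK _ (by rw [Subgroup.orderOf_coe]; exact
          (orderOf_injective (MulAut.conj b).toMonoidHom (MulAut.conj b).injective v).trans hv2)
          ((hK _).mp hb.2)
      exact (isConj_iff.mpr ⟨b, Subtype.ext h1⟩ : IsConj v ⟨z, hzT⟩).symm
  have hD : Data (⟨z, hzT⟩ : T) K ⟨u, huT⟩ := by
    refine ⟨by rw [Subgroup.orderOf_mk, hz], fun a ha b hb => Subtype.ext ?_, hzK,
      by rw [Subgroup.orderOf_mk, hu2], Subtype.ext hgc.eq.symm, fun h => humoves ((hK _).mp h),
      fun y hy => ?_, fun a ha h => ?_, fun a ha => Subtype.ext ?_, fun y hy a ha h => ?_, hconj⟩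
    · exact hF.cen_comm hM hR ((hK a).mp ha) ((hK b).mp hb)
    · rcases hlist y (congrArg Subtype.val hy) with h | h
      · exact Or.inl ((hK y).mpr h)
      · exact Or.inr ((hK _).mpr h)
    · by_cases ha1 : (a : G) = 1
      · exact Or.inl (Subtype.ext ha1)
      · refine Or.inr (Subtype.ext (hinvK a (orderOf_eq_prime ?_ ha1) ((hK a).mp ha)))
        rw [sq]; exact congrArg Subtype.val h
    · exact hF.inverts_cen hM hR ((hK a).mp ha)
    · by_contra ha1
      refine hy (Subtype.ext ?_)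
      show (y : G) * z = z * (y : G)
      have hax := (hK a).mp ha
      have hyx : (y : G) * a * (y : G)⁻¹ * x = x * ((y : G) * a * (y : G)⁻¹) := (hK _).mp h
      obtain ⟨k, m, hm, he⟩ := Nat.exists_eq_two_pow_mul_odd (orderOf_pos (a : G)).ne'
      have hao : orderOf ((a : G) ^ 2 ^ k) = m := by
        rw [orderOf_pow_of_dvd (by positivity) (he ▸ dvd_mul_right _ _), he,
          Nat.mul_div_cancel_left _ (by positivity)]
      by_cases h1 : (a : G) ^ 2 ^ k = 1
      · have ha2 : orderOf (a : G) = 2 ^ k := by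
          rw [h1, orderOf_one] at hao; rw [he, ← hao, mul_one]
        obtain ⟨i, rfl⟩ : ∃ i, k = i + 1 := Nat.exists_eq_succ_of_ne_zero fun e => ha1
          (Subtype.ext (orderOf_eq_one_iff.mp (by rw [ha2, e, pow_zero])))
        have hw : orderOf ((a : G) ^ 2 ^ i) = 2 := by
          rw [orderOf_pow_of_dvd (by positivity) (ha2 ▸ pow_dvd_pow 2 (Nat.le_succ _)), ha2,
            Nat.pow_div (Nat.le_succ _) (by norm_num), show i + 1 - i = 1 by omega, pow_one]
        have e1 := hinvK _ hw ((show Commute (a : G) x from hax).pow_left _).eq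
        have e2 := hinvK ((y : G) * (a : G) ^ 2 ^ i * (y : G)⁻¹)
          ((orderOf_injective (MulAut.conj (y : G)).toMonoidHom (MulAut.conj (y : G)).injective _).trans hw)
          (by rw [← conj_pow]; exact ((show Commute ((y : G) * a * (y : G)⁻¹) x from hyx).pow_left _).eq)
        rw [e1] at e2
        exact mul_inv_eq_iff_eq_mul.mp e2
      · have hw : (a : G) ^ 2 ^ k ∈ Subgroup.zpowers x :=
          hF.mem_zpowers_x hM hR (by rw [hao]; exact hm)
            ((show Commute (a : G) z from hF.comm_t hM hR hax).pow_left _).eq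
        have hw' : (y : G) * (a : G) ^ 2 ^ k * (y : G)⁻¹ ∈ Subgroup.zpowers x :=
          hF.mem_zpowers_x hM hR (by
            rw [← conj_pow, conj_pow,
              show orderOf ((y : G) * (a : G) ^ 2 ^ k * (y : G)⁻¹) = _ from
                orderOf_injective (MulAut.conj (y : G)).toMonoidHom (MulAut.conj (y : G)).injective _,
              hao]
            exact hm)
            (by rw [← conj_pow]; exact ((show Commute ((y : G) * a * (y : G)⁻¹) z from
              hF.comm_t hM hR hyx).pow_left _).eq)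
        have hmap : (Subgroup.zpowers x).map (MulAut.conj (y : G)).toMonoidHom =
            Subgroup.zpowers x := by
          refine Subgroup.eq_of_le_of_card_ge ?_
            (Subgroup.card_map_of_injective (MulAut.conj (y : G)).injective).ge
          rw [MonoidHom.map_zpowers, Subgroup.zpowers_le]
          obtain ⟨i, hi⟩ := Subgroup.mem_zpowers_iff.mp (mem_zpowers_of_mem_ne_one hx hw h1)
          show (y : G) * x * (y : G)⁻¹ ∈ Subgroup.zpowers x
          rw [← hi, ← conj_zpow, hi]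
          exact zpow_mem hw' i
        refine mem_cen.mp ((hF.normalizer_x hM hR).le (Subgroup.mem_normalizer_iff.mpr fun w => ?_))
        conv_rhs => rw [← hmap]
        exact (Subgroup.mem_map_iff_mem (f := (MulAut.conj (y : G)).toMonoidHom)
          (MulAut.conj (y : G)).injective).symm
  obtain ⟨Q, D, hC⟩ : ∃ Q D : Subgroup T, Conclusion Q D := by
    obtain ⟨m, hm⟩ := hD.even_card
    have hpos : 0 < Nat.card K := Nat.card_pos
    rcases (show Nat.card K = 2 ∨ 4 ≤ Nat.card K by omega) with hk | hk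
    · exact hD.conclusion_two hk
    · obtain ⟨a, ε, M, q, L, hS⟩ := hD.exists_setting hk
      rcases hS.cases with h | h
      · exact hS.conclusion_plus h.1
      · exact hS.conclusion_minus h.1
  have hq5 : 5 ≤ Nat.card Q := by
    by_contra hlt
    have h0 : 0 < Nat.card D := Nat.card_pos
    have hQ3 : Nat.card Q = 3 := by have := hC.2.2.2.1; omega
    have h12 : Nat.card T = 12 := by
      have := hC.1; rw [hQ3] at this; omega
    exact hTns (CfsgLib.Chars.Apps.isSolvable_of_card_eq_pow_mul_pow T Nat.prime_two Nat.prime_three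
      (a := 2) (b := 1) (by rw [h12]; norm_num))
  obtain ⟨F, i1, i2, hodd, ⟨e⟩⟩ := psl_of_conclusion hC hq5
  refine ⟨F, i1, i2, hodd, ?_, ⟨e⟩⟩
  by_contra hlt
  have hF3 : Fintype.card F = 3 := by
    have := Fintype.one_lt_card (α := F)
    obtain ⟨j, hj⟩ := hodd
    omega
  have := hC.1
  have hcard := Nat.card_congr e.toEquiv
  have h12 : Nat.card (Matrix.ProjectiveSpecialLinearGroup (Fin 2) F) ∣ 24 := by
    have hsl : Nat.card (Matrix.SpecialLinearGroup (Fin 2) F) = 24 := by
      have h : Nat.card (Matrix.SpecialLinearGroup (Fin 2) F) * (Fintype.card F - 1) =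
          (Fintype.card F ^ 2 - 1) * (Fintype.card F ^ 2 - Fintype.card F) :=
        CfsgLib.CommutingSLTwo.card_SL2
      rw [hF3] at h
      norm_num at h
      rw [Nat.card_eq_fintype_card]; omega
    rw [← hsl]
    exact Subgroup.card_quotient_dvd_card _
  rw [← hcard] at h12
  have h60 : 60 ≤ Nat.card T := by
    have h5' : 30 * 4 ≤ Nat.card Q * (Nat.card Q + 1) * (Nat.card Q - 1) :=
      Nat.mul_le_mul (le_trans (by norm_num) (Nat.mul_le_mul hq5 (Nat.succ_le_succ hq5))) (by omega)
    omega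
  have h24 := Nat.le_of_dvd (by norm_num) h12
  omega

end CfsgLib.MaxNorm
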