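import Cfsg.Agent.MaxNorm.SmallPSL
import Cfsg.Agent.Classical.Linear.Simple

/-!
A normal `PSL(2, q)` with trivial centraliser in a group with maximal normalisers is the whole
group, and `q = 13`.
-/

set_option autoImplicit false

namespace CfsgLib.MaxNorm

open Matrix
open scoped MatrixGroups

local notation "PS" p:max => Matrix.ProjectiveSpecialLinearGroup (Fin 2) (ZMod p)

instance fact_prime_thirteen_maxNorm : Fact (Nat.Prime 13) := ⟨by norm_num⟩

theorem card_psl_zmod (p : ℕ) [Fact p.Prime] (hodd : Odd p) :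
    2 * Nat.card (PS p) = p * (p ^ 2 - 1) := by
  have h := Dickson.psl_two_mul_card (F := ZMod p) (by rw [ZMod.card]; exact hodd)
  rwa [ZMod.card] at h

/-- The index of the image of `SL` in `PGL`. -/
theorem card_pgl_zmod (p : ℕ) [Fact p.Prime] (hodd : Odd p) :
    Nat.card (PGL(2, ZMod p)) = 2 * Nat.card (PS p) := by
  classical
  have hq : 1 < p := (Fact.out : p.Prime).one_lt
  rw [Dickson.card_pgl2, card_psl_zmod p hodd, ZMod.card,
    show p ^ 2 - 1 = (p + 1) * (p - 1) by rw [← Nat.sq_sub_sq, one_pow]]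
  ring

/-- A group between `PSL(2, p)` and its automorphism group is one of the two. -/
theorem mulEquiv_psl_or_pgl {G : Type*} [Group G] [Finite G] {T : Subgroup G} [T.Normal]
    (hC : Subgroup.centralizer (T : Set G) = ⊥) (p : ℕ) [Fact p.Prime] (hodd : Odd p)
    (e : T ≃* PS p) :
    (T = ⊤ ∧ Nonempty (G ≃* PS p)) ∨ Nonempty (G ≃* PGL(2, ZMod p)) := by
  classical
  by_cases hT : T = ⊤
  · exact Or.inl ⟨hT, ⟨(Subgroup.topEquiv.symm.trans (MulEquiv.subgroupCongr hT.symm)).trans e⟩⟩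
  refine Or.inr ?_
  let ψ : G →* MulAut (PS p) := (MulAut.congr e).toMonoidHom.comp MulAut.conjNormal
  have hψ : Function.Injective ψ := by
    refine (injective_iff_map_eq_one ψ).mpr fun g hg => ?_
    have hg' : (MulAut.conjNormal g : MulAut T) = 1 :=
      (MulAut.congr e).injective (hg.trans (map_one _).symm)
    have : g ∈ Subgroup.centralizer (T : Set G) := Subgroup.mem_centralizer_iff.mpr fun x hx => by
      have h := congrArg Subtype.val (MulEquiv.congr_fun hg' ⟨x, hx⟩)
      exact (mul_inv_eq_iff_eq_mul.mp h).symm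
    rwa [hC, Subgroup.mem_bot] at this
  have hsurj : Function.Surjective
      (AutPSL.conjHom : GL (Fin 2) (ZMod p) →* MulAut (PS p)) := by
    intro β
    obtain ⟨g, σ, rfl⟩ := AutPSL.exists_decomposition_two β
    exact ⟨g, by rw [Subsingleton.elim σ 1, map_one, mul_one]⟩
  have hker : (AutPSL.conjHom : GL (Fin 2) (ZMod p) →* MulAut (PS p)).ker =
      Subgroup.center (GL (Fin 2) (ZMod p)) := by
    ext g
    rw [MonoidHom.mem_ker]
    exact AutPSL.conjPSL_eq_one_iff le_rfl
  let ε : MulAut (PS p) ≃* PGL(2, ZMod p) :=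
    ((QuotientGroup.quotientMulEquivOfEq hker.symm).trans
      (QuotientGroup.quotientKerEquivOfSurjective _ hsurj)).symm
  haveI : Finite (MulAut (PS p)) := Finite.of_equiv _ ε.symm.toEquiv
  have hA : Nat.card (MulAut (PS p)) = 2 * Nat.card T := by
    rw [Nat.card_congr ε.toEquiv, card_pgl_zmod p hodd, Nat.card_congr e.toEquiv]
  have hd : Nat.card G ∣ 2 * Nat.card T := hA ▸ Subgroup.card_dvd_of_injective ψ hψ
  have hG : Nat.card G = 2 * Nat.card T := by
    rw [← T.card_mul_index, mul_comm 2] at hd ⊢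
    rcases (Nat.dvd_prime Nat.prime_two).mp (Nat.dvd_of_mul_dvd_mul_left Nat.card_pos hd) with h | h
    · exact absurd (Subgroup.index_eq_one.mp h) hT
    · rw [h]
  exact ⟨(MulEquiv.ofBijective ψ
    ((Nat.bijective_iff_injective_and_card ψ).mpr ⟨hψ, by rw [hG, hA]⟩)).trans ε⟩

/-- A dihedral subgroup of order 24 is impossible. -/
theorem no_dihedral_twelve {G : Type*} [Group G] [Finite G] (hM : MaxNormalizers G)
    (hR : NoSolvNormal G) (f : DihedralGroup 12 →* G) (hf : Function.Injective f) : False := by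
  haveI : Fact (Nat.Prime 3) := ⟨Nat.prime_three⟩
  have := Nat.le_of_dvd (by norm_num) (hM.dihedral_odd hR f hf (ℓ := 3) (by norm_num) (by norm_num))
  omega

theorem ne_pgl_eleven (hM : MaxNormalizers PGL(2, ZMod 11)) (hR : NoSolvNormal PGL(2, ZMod 11)) :
    False := by
  classical
  obtain ⟨c, hc⟩ := Dickson.exists_isQuad (F := ZMod 11)
  obtain ⟨i⟩ := Dickson.pairN_dihedral (F := ZMod 11)
    (fun h => hc.1 (OnePoint.coe_injective h).symm) (Dickson.exists_swap_quad hc)
  rw [Dickson.card_pairT_quad hc, ZMod.card] at i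
  exact no_dihedral_twelve hM hR ((Subgroup.subtype _).comp i.symm.toMonoidHom)
    (Subtype.val_injective.comp i.symm.injective)

theorem ne_pgl_thirteen (hM : MaxNormalizers PGL(2, ZMod 13)) (hR : NoSolvNormal PGL(2, ZMod 13)) :
    False := by
  classical
  have hx : Dickson.IsRat (F := ZMod 13) (OnePoint.infty : OnePoint (AlgebraicClosure (ZMod 13))) :=
    ⟨OnePoint.infty, rfl⟩
  have hy : Dickson.IsRat (F := ZMod 13)
      ((algebraMap (ZMod 13) (AlgebraicClosure (ZMod 13)) 0 : AlgebraicClosure (ZMod 13)) :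
        OnePoint (AlgebraicClosure (ZMod 13))) := ⟨((0 : ZMod 13) : OnePoint (ZMod 13)), rfl⟩
  have hne := OnePoint.infty_ne_coe (algebraMap (ZMod 13) (AlgebraicClosure (ZMod 13)) 0)
  obtain ⟨i⟩ := Dickson.pairN_dihedral hne (Dickson.exists_swap_rat hne hx hy)
  rw [Dickson.card_pairT_rat hne hx hy, ZMod.card] at i
  exact no_dihedral_twelve hM hR ((Subgroup.subtype _).comp i.symm.toMonoidHom)
    (Subtype.val_injective.comp i.symm.injective)

theorem dihedral_eight_four : ∀ a b c : DihedralGroup 8, a * a = 1 → b * b = 1 → a ≠ 1 → b ≠ 1 →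
    a ≠ b → a * b = b * a → a * c = c * a → b * c = c * b →
    c = 1 ∨ c = a ∨ c = b ∨ c = a * b := by decide

theorem perm_four_klein : ∀ x : Equiv.Perm (Fin 4),
    x * (Equiv.swap 0 1 * Equiv.swap 2 3) = (Equiv.swap 0 1 * Equiv.swap 2 3) * x →
    x * (Equiv.swap 0 2 * Equiv.swap 1 3) = (Equiv.swap 0 2 * Equiv.swap 1 3) * x →
    x = 1 ∨ x = Equiv.swap 0 1 * Equiv.swap 2 3 ∨ x = Equiv.swap 0 2 * Equiv.swap 1 3 ∨
      x = Equiv.swap 0 1 * Equiv.swap 2 3 * (Equiv.swap 0 2 * Equiv.swap 1 3) := by decide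

set_option maxHeartbeats 1000000 in
theorem ne_pgl_seven (hM : MaxNormalizers PGL(2, ZMod 7)) (hR : NoSolvNormal PGL(2, ZMod 7)) :
    False := by
  classical
  haveI : Fact (Nat.Prime 2) := ⟨Nat.prime_two⟩
  have h2 : (2 : ZMod 7) ≠ 0 := by decide
  have hodd : Odd 7 := by decide
  have hP : Nat.card (PS 7) = 168 := by have := card_psl_zmod 7 hodd; omega
  have hG : Nat.card (PGL(2, ZMod 7)) = 336 := by rw [card_pgl_zmod 7 hodd, hP]
  set ι : PS 7 →* PGL(2, ZMod 7) := ProjectiveSpecialLinearGroup.toPGL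
  have hι : Function.Injective ι := ProjectiveSpecialLinearGroup.toPGL_injective
  set R := ι.range
  have hRn : R.Normal := by
    show ι.range.Normal
    rw [Dickson.range_toPGL_psl]
    exact Dickson.toPGL_range_normal
  have hRc : Nat.card R = 168 := by
    rw [← Nat.card_congr (MonoidHom.ofInjective hι).toEquiv, hP]
  obtain ⟨K, ⟨i⟩⟩ := Dickson.exists_psl_s4 (F := ZMod 7) h2 ⟨3, by decide⟩
  let a : Equiv.Perm (Fin 4) := Equiv.swap 0 1 * Equiv.swap 2 3
  let b : Equiv.Perm (Fin 4) := Equiv.swap 0 2 * Equiv.swap 1 3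
  let j : Equiv.Perm (Fin 4) →* PGL(2, ZMod 7) := ι.comp (K.subtype.comp i.symm.toMonoidHom)
  have hj : Function.Injective j := hι.comp (K.subtype_injective.comp i.symm.injective)
  let V4 := SL2.vFour a b (by decide) (by decide) (show a * b = b * a by decide)
  have hV4 : Nat.card V4 = 4 :=
    (SL2.isKleinFour_vFour (orderOf_eq_prime (by decide) (by decide))
      (orderOf_eq_prime (by decide) (by decide)) (show a * b = b * a by decide) (by decide)).card_four
  set V := V4.map j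
  have hV : Nat.card V = 4 := by rw [Subgroup.card_map_of_injective hj, hV4]
  have hrange : j.range ≤ Subgroup.normalizer (V : Set PGL(2, ZMod 7)) := by
    rintro _ ⟨x, rfl⟩
    refine Subgroup.le_normalizer_map j ⟨x, ?_, rfl⟩
    refine Subgroup.mem_normalizer_iff_map_conj_eq.mpr (Subgroup.eq_of_le_of_card_ge ?_
      (Subgroup.card_map_of_injective (MulAut.conj x).injective).symm.le)
    rintro _ ⟨v, hv, rfl⟩
    show x * v * x⁻¹ ∈ V4
    have key : ∀ x : Equiv.Perm (Fin 4), ∀ v : Equiv.Perm (Fin 4),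
        (v = 1 ∨ v = a ∨ v = b ∨ v = a * b) →
        (x * v * x⁻¹ = 1 ∨ x * v * x⁻¹ = a ∨ x * v * x⁻¹ = b ∨ x * v * x⁻¹ = a * b) := by decide
    exact key x v hv
  have hjR : j.range ≤ R := by
    rintro _ ⟨x, rfl⟩
    exact ⟨_, rfl⟩
  have hj24 : Nat.card j.range = 24 := by
    rw [← Nat.card_congr (MonoidHom.ofInjective hj).toEquiv, Nat.card_perm, Nat.card_fin]
    rfl
  have hV2 : IsPGroup 2 V := IsPGroup.of_card (n := 2) (by rw [hV]; norm_num)
  have hVs := not_isSubnormal_pGroup hR Nat.prime_two hV2 (ne_bot_of_card hV (by norm_num))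
  have hco := hM V hVs (biprimary_of_isPGroup Nat.prime_two hV2)
  set N := Subgroup.normalizer (V : Set PGL(2, ZMod 7))
  have hVR : V ≤ R := (Subgroup.map_le_range j V4).trans hjR
  have hRN : ¬ R ≤ N := fun h => hVs (Subgroup.IsSubnormal.step V R hVR hRn.isSubnormal
    (Subgroup.normal_subgroupOf_of_le_normalizer h))
  have hNR : ¬ N ≤ R := fun h => by
    rcases eq_or_lt_of_le h with h1 | h1
    · exact hRN h1.ge
    · have := hco.2 R h1
      rw [this, Subgroup.card_top, hG] at hRc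
      omega
  -- `N` has order 48
  have hNR24 : N ⊓ R = j.range := by
    refine (Subgroup.eq_of_le_of_card_ge (le_inf hrange hjR) ?_).symm
    have hd : Nat.card (N ⊓ R : Subgroup _) ∣ 168 := hRc ▸ Subgroup.card_dvd_of_le inf_le_right
    have hd' : 24 ∣ Nat.card (N ⊓ R : Subgroup _) :=
      hj24 ▸ Subgroup.card_dvd_of_le (le_inf hrange hjR)
    have hne : Nat.card (N ⊓ R : Subgroup _) ≠ 168 := fun h => hRN
      ((Subgroup.eq_of_le_of_card_ge inf_le_right (by rw [hRc, h])).symm.le.trans inf_le_left)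
    rw [hj24]
    obtain ⟨k, hk⟩ := hd'
    rw [hk] at hd hne ⊢
    rcases (Nat.dvd_prime (by norm_num : Nat.Prime 7)).mp
      (Nat.dvd_of_mul_dvd_mul_left (by norm_num : 0 < 24) (show 24 * k ∣ 24 * 7 by simpa using hd))
      with h | h <;> omega
  have hN48 : Nat.card N = 48 := by
    haveI := hRn
    have h1 := Subgroup.card_mul_index ((N ⊓ R).subgroupOf N)
    rw [Nat.card_congr (Subgroup.subgroupOfEquivOfLe (inf_le_left : N ⊓ R ≤ N)).toEquiv,
      ← Subgroup.relIndex, Subgroup.inf_relIndex_left, hNR24, hj24] at h1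
    have h2' : R.index = 2 := by
      have h := R.card_mul_index
      rw [hRc, hG] at h
      omega
    have h3 := Subgroup.relIndex_dvd_index_of_normal R N
    rw [h2'] at h3
    rcases (Nat.dvd_prime Nat.prime_two).mp h3 with h | h
    · exact absurd (Subgroup.relIndex_eq_one.mp h) hNR
    · rw [h] at h1; omega
  -- the centraliser is a 2-group of order at least 8
  set C := Subgroup.centralizer (V : Set PGL(2, ZMod 7))
  have hCN : C ≤ N := Subgroup.centralizer_le_normalizer _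
  have hCR : C ⊓ R ≤ V := by
    intro g hg
    have hg' : g ∈ j.range := hNR24 ▸ ⟨hCN hg.1, hg.2⟩
    obtain ⟨x, rfl⟩ := hg'
    have hc : ∀ v ∈ V4, x * v = v * x := fun v hv => hj (by
      rw [map_mul, map_mul]
      exact (Subgroup.mem_centralizer_iff.mp hg.1 _ ⟨v, hv, rfl⟩).symm)
    exact ⟨x, perm_four_klein x (hc a (Or.inr (Or.inl rfl))) (hc b (Or.inr (Or.inr (Or.inl rfl)))), rfl⟩
  obtain ⟨c, hcC, hcV⟩ : ∃ c ∈ C, c ∉ V := by
    by_contra! hle
    have hk : V.normalizerMonoidHom.ker = (C.subgroupOf N) := Subgroup.normalizerMonoidHom_ker _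
    have h1 := V.normalizerMonoidHom.ker.card_mul_index
    rw [Subgroup.index_ker, hk, Nat.card_congr (Subgroup.subgroupOfEquivOfLe hCN).toEquiv, hN48] at h1
    have h4 : Nat.card C ≤ 4 := hV ▸ Subgroup.card_le_of_le (fun c hc => hle c hc)
    have h6 : Nat.card V.normalizerMonoidHom.range ≤ 6 := Nat.le_of_dvd (by norm_num)
      ((Subgroup.card_subgroup_dvd_card _).trans (card_mulAut_dvd_six hV))
    have := Nat.mul_le_mul h4 h6
    omega
  have hcR : c ∉ R := fun h => hcV (hCR ⟨hcC, h⟩)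
  have hc2 : c * c ∈ V := by
    refine hCR ⟨mul_mem hcC hcC, ?_⟩
    haveI := hRn
    have h2' : R.index = 2 := by
      have h := R.card_mul_index
      rw [hRc, hG] at h
      omega
    exact (Subgroup.mul_mem_iff_of_index_two h2').mpr Iff.rfl
  have hZ : Subgroup.zpowers c ≤ Subgroup.normalizer (V : Set PGL(2, ZMod 7)) :=
    Subgroup.zpowers_le.mpr (hCN hcC)
  have hc4 : IsPGroup 2 (Subgroup.zpowers c) := by
    obtain ⟨k, hk⟩ := hV2 ⟨_, hc2⟩
    have hk' : (c * c) ^ 2 ^ k = 1 := congrArg Subtype.val hk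
    have hd : orderOf c ∣ 2 ^ (k + 1) := orderOf_dvd_of_pow_eq_one (by
      rw [pow_succ', pow_mul, pow_two, hk'])
    obtain ⟨l, -, hl⟩ := (Nat.dvd_prime_pow Nat.prime_two).mp hd
    exact isPGroup_zpowers_of_orderOf_eq hl
  have hW : IsPGroup 2 (Subgroup.zpowers c ⊔ V : Subgroup _) :=
    hc4.to_sup_of_normal_right' hV2 hZ
  -- Sylow 2-subgroups are dihedral of order 16
  obtain ⟨d, hd⟩ := Dickson.exists_isQuad (F := ZMod 7)
  obtain ⟨l⟩ := Dickson.pairN_dihedral (F := ZMod 7)
    (fun h => hd.1 (OnePoint.coe_injective h).symm) (Dickson.exists_swap_quad hd)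
  rw [Dickson.card_pairT_quad hd, ZMod.card] at l
  set D := Dickson.pairN (F := ZMod 7) (d : OnePoint (AlgebraicClosure (ZMod 7)))
    (Dickson.frob (ZMod 7) d : OnePoint (AlgebraicClosure (ZMod 7)))
  have hD : Nat.card D = 2 ^ 4 := by
    rw [Nat.card_congr l.toEquiv, DihedralGroup.nat_card]
    rfl
  obtain ⟨P, hP'⟩ := hW.exists_le_sylow
  have hPc : Nat.card (P : Subgroup PGL(2, ZMod 7)) = 2 ^ 4 := by
    have hPd : IsPGroup 2 D := IsPGroup.of_card hD
    obtain ⟨Q, hQ⟩ := hPd.exists_le_sylow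
    have h1 := Subgroup.card_le_of_le hQ
    have h2' : Nat.card (Q : Subgroup PGL(2, ZMod 7)) ≤ 2 ^ 4 :=
      Dickson.Thirteen.card_pow_le (by rw [hG]; norm_num) Q.isPGroup'
    rw [hD] at h1
    rw [Nat.card_congr (P.equiv Q).toEquiv]
    omega
  obtain ⟨g, hg⟩ := Dickson.Thirteen.sylow_conj (by rw [hG]; norm_num) hPc hD
  let k := (MulAut.conj g⁻¹).toMonoidHom
  have hk : ∀ x ∈ Subgroup.zpowers c ⊔ V, k x ∈ D := by
    intro x hx
    have hx' := hP' hx
    rw [← hg] at hx'
    obtain ⟨y, hy, rfl⟩ := hx'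
    show g⁻¹ * (g * y * g⁻¹) * g⁻¹⁻¹ ∈ D
    simpa [mul_assoc] using hy
  let φ : (Subgroup.zpowers c ⊔ V : Subgroup _) →* DihedralGroup (7 + 1) :=
    l.toMonoidHom.comp ((k.comp (Subgroup.subtype _)).codRestrict D fun x => hk x x.2)
  have hφ : Function.Injective φ := fun x y hxy => Subtype.ext
    ((MulAut.conj g⁻¹).injective (congrArg Subtype.val (l.injective hxy)))
  have hmemV : ∀ v ∈ V4, j v ∈ Subgroup.zpowers c ⊔ V := fun v hv =>
    Subgroup.mem_sup_right ⟨v, hv, rfl⟩
  let A : (Subgroup.zpowers c ⊔ V : Subgroup _) := ⟨j a, hmemV a (Or.inr (Or.inl rfl))⟩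
  let B : (Subgroup.zpowers c ⊔ V : Subgroup _) := ⟨j b, hmemV b (Or.inr (Or.inr (Or.inl rfl)))⟩
  let C' : (Subgroup.zpowers c ⊔ V : Subgroup _) :=
    ⟨c, Subgroup.mem_sup_left (Subgroup.mem_zpowers c)⟩
  have hcomm : ∀ v ∈ V4, j v * c = c * j v := fun v hv =>
    Subgroup.mem_centralizer_iff.mp hcC _ ⟨v, hv, rfl⟩
  have hinj1 : ∀ v : Equiv.Perm (Fin 4), ∀ hv : j v ∈ Subgroup.zpowers c ⊔ V, v ≠ 1 →
      φ ⟨j v, hv⟩ ≠ 1 := fun v hv hne h => hne (hj (by
    rw [map_one]; exact congrArg Subtype.val (hφ (h.trans (map_one φ).symm))))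
  rcases dihedral_eight_four (φ A) (φ B) (φ C')
      (by rw [← map_mul, ← map_one φ]; congr 1; exact Subtype.ext (by
        show j a * j a = 1
        rw [← map_mul, show a * a = 1 by decide, map_one]))
      (by rw [← map_mul, ← map_one φ]; congr 1; exact Subtype.ext (by
        show j b * j b = 1
        rw [← map_mul, show b * b = 1 by decide, map_one]))
      (hinj1 a _ (by decide)) (hinj1 b _ (by decide))
      (fun h => absurd (hj (congrArg Subtype.val (hφ h))) (by decide))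
      (by rw [← map_mul, ← map_mul]; congr 1; exact Subtype.ext (by
        show j a * j b = j b * j a
        rw [← map_mul, ← map_mul, show a * b = b * a by decide]))
      (by rw [← map_mul, ← map_mul]; congr 1; exact Subtype.ext (hcomm a (Or.inr (Or.inl rfl))))
      (by rw [← map_mul, ← map_mul]; congr 1; exact Subtype.ext (hcomm b (Or.inr (Or.inr (Or.inl rfl)))))
    with h | h | h | h
  · have e1 : c = 1 := congrArg Subtype.val (hφ (h.trans (map_one φ).symm))
    exact hcV (e1 ▸ one_mem V)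
  · have e1 : c = j a := congrArg Subtype.val (hφ h)
    exact hcV (e1 ▸ ⟨a, Or.inr (Or.inl rfl), rfl⟩)
  · have e1 : c = j b := congrArg Subtype.val (hφ h)
    exact hcV (e1 ▸ ⟨b, Or.inr (Or.inr (Or.inl rfl)), rfl⟩)
  · rw [← map_mul] at h
    have e1 : c = j a * j b := congrArg Subtype.val (hφ h)
    exact hcV (e1 ▸
      mul_mem (⟨a, Or.inr (Or.inl rfl), rfl⟩ : j a ∈ V) (⟨b, Or.inr (Or.inr (Or.inl rfl)), rfl⟩ : j b ∈ V))

/-- Piece (5) of S4233. -/
theorem eq_top_and_card {G : Type*} [Group G] [Finite G] (hM : MaxNormalizers G) (hR : NoSolvNormal G)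
    {T : Subgroup G} [T.Normal] (hC : Subgroup.centralizer (T : Set G) = ⊥)
    {F : Type} [Field F] [Fintype F] (hodd : Odd (Fintype.card F)) (h5 : 5 ≤ Fintype.card F)
    (e : T ≃* Matrix.ProjectiveSpecialLinearGroup (Fin 2) F) : T = ⊤ ∧ Fintype.card F = 13 := by
  classical
  have hp := hM.prime_card hR hodd e
  have hcases := hM.small_prime hR hodd h5 e
  haveI := Fact.mk hp
  obtain ⟨e'⟩ := Dickson.psl_congr (ZMod.ringEquivOfPrime F hp rfl).symm
  have hd := mulEquiv_psl_or_pgl hC (Fintype.card F) hodd (e.trans e')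
  have e0 := e.trans e'
  generalize Fintype.card F = p at hp hcases hd e0 hodd h5
  rcases hcases with rfl | rfl | rfl | rfl
  · exact (hM.ne_five hR e0).elim
  · rcases hd with ⟨-, ⟨i⟩⟩ | ⟨⟨i⟩⟩
    · exact (ne_psl_seven (hM.of_surjective i.toMonoidHom i.surjective) (hR.of_equiv i)).elim
    · exact (ne_pgl_seven (hM.of_surjective i.toMonoidHom i.surjective) (hR.of_equiv i)).elim
  · rcases hd with ⟨-, ⟨i⟩⟩ | ⟨⟨i⟩⟩
    · exact (ne_psl_eleven (hM.of_surjective i.toMonoidHom i.surjective) (hR.of_equiv i)).elim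
    · exact (ne_pgl_eleven (hM.of_surjective i.toMonoidHom i.surjective) (hR.of_equiv i)).elim
  · rcases hd with ⟨hT, -⟩ | ⟨⟨i⟩⟩
    · exact ⟨hT, rfl⟩
    · exact (ne_pgl_thirteen (hM.of_surjective i.toMonoidHom i.surjective) (hR.of_equiv i)).elim

end CfsgLib.MaxNorm
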