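import Cfsg.Agent.MaxNorm.Central
import Cfsg.Agent.PGroup.Normal

/-!
An involution outside the centres of the Sylow subgroups has a `2`-group centraliser as well.
-/

set_option autoImplicit false
set_option linter.style.haveILetI false
set_option linter.unusedSectionVars false

namespace CfsgLib.MaxNorm

open Subgroup

variable {G : Type*} [Group G] [Finite G]

/-- No element commuting with an element of odd prime order is conjugate to `z`. -/
theorem conj_ne_of_two_group {S : Sylow 2 G} {z t x : G} (hSz : Cen z = (S : Subgroup G))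
    (hx : (orderOf x).Prime) (hxo : Odd (orderOf x)) (hxt : x * t = t * x) (c : G) :
    c * z * c⁻¹ ≠ t := by
  intro h
  have h1 : c⁻¹ * x * c ∈ Cen z := by
    refine mem_cen.mpr ?_
    have e : z = c⁻¹ * t * c := by rw [← h]; group
    rw [e, show c⁻¹ * x * c * (c⁻¹ * t * c) = c⁻¹ * (x * t) * c by group, hxt]
    group
  rw [hSz] at h1
  obtain ⟨k, hk⟩ := IsPGroup.iff_orderOf.mp S.2 ⟨_, h1⟩
  have ho : orderOf (c⁻¹ * x * c) = orderOf x := by
    conv_rhs => rw [show x = c * (c⁻¹ * x * c) * c⁻¹ by group]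
    exact (orderOf_injective (MulAut.conj c).toMonoidHom (MulAut.conj c).injective _).symm
  rw [Subgroup.orderOf_mk, ho] at hk
  rw [hk] at hx hxo
  rcases k with - | k
  · exact Nat.not_prime_one (by simpa using hx)
  · exact Nat.not_even_iff_odd.mpr hxo ((Nat.even_pow).mpr ⟨even_two, Nat.succ_ne_zero k⟩)

variable (hM : MaxNormalizers G) (hR : NoSolvNormal G)
include hM hR

/-- The Sylow subgroup `C_S(t)` of `C(t)` is `<s> × <t>` and `t` has two conjugates under `S`. -/
theorem noncentral_structure {S : Sylow 2 G} {z t x : G} (hz : orderOf z = 2)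
    (hSz : Cen z = (S : Subgroup G)) (ht : orderOf t = 2) (htS : t ∈ (S : Subgroup G))
    (hx : (orderOf x).Prime) (hxo : Odd (orderOf x)) (hxt : x * t = t * x)
    (hmax : ∀ P : Subgroup G, IsPGroup 2 P → P ≤ Cen t →
      (S : Subgroup G) ⊓ Cen t ≤ P → P ≤ (S : Subgroup G)) :
    ∃ s : G, s ∈ (S : Subgroup G) ∧ s * t = t * s ∧ t ∉ Subgroup.zpowers s ∧
      z ∈ Subgroup.zpowers s ∧
      (∀ y ∈ (S : Subgroup G), y * t = t * y → ∃ k : ℤ, y = s ^ k ∨ y = s ^ k * t) ∧
      (∀ y ∈ (S : Subgroup G), y * t * y⁻¹ = t ∨ y * t * y⁻¹ = t * z) ∧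
      (∃ g ∈ (S : Subgroup G), g * t * g⁻¹ = t * z) := by
  haveI : Fact (Nat.Prime 2) := ⟨Nat.prime_two⟩
  set P1 : Subgroup G := (S : Subgroup G) ⊓ Cen t with hP1
  have hP1S : P1 ≤ (S : Subgroup G) := inf_le_left
  have hzS : z ∈ (S : Subgroup G) := hSz.le (mem_cen.mpr rfl)
  have hzc : ∀ y ∈ (S : Subgroup G), y * z = z * y := fun y hy => mem_cen.mp (hSz.ge hy)
  have hzt : z * t = t * z := (hzc t htS).symm
  obtain ⟨hz2, hz1⟩ := orderOf_two hz
  obtain ⟨ht2, ht1⟩ := orderOf_two ht
  have hzne : z ≠ t := fun e => conj_ne_of_two_group hSz hx hxo hxt 1 (by simpa using e)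
  have hzx : z * x ≠ x * z := fun e => by
    have h1 := cen_eq_of_commute hM hR ht hz hx hxo hxt e.symm
    exact conj_ne_of_two_group (z := z) (t := z) hSz hx hxo
      (mem_cen.mp (h1 ▸ mem_cen.mpr hxt : x ∈ Cen z)) 1 (by simp)
  have hzP : z ∈ P1 := ⟨hzS, mem_cen.mpr hzt⟩
  have htP : t ∈ P1 := ⟨htS, mem_cen.mpr rfl⟩
  -- an element of the normaliser of `P1` in `S` moves `t`
  have hlt : P1 < (S : Subgroup G) := by
    refine lt_of_le_of_ne hP1S fun e => ?_
    have h1 : (S : Subgroup G) ≤ Cen t := fun y hy => ((e ▸ hy : y ∈ P1)).2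
    rw [← hSz] at h1
    rcases (isCoatom_cen hM hR hz).le_iff.mp h1 with h | h
    · exact (isCoatom_cen hM hR ht).1 h
    · exact conj_ne_of_two_group (z := z) (t := z) hSz hx hxo
        (mem_cen.mp (h ▸ mem_cen.mpr hxt : x ∈ Cen z)) 1 (by simp)
  obtain ⟨g, hgS, hgP, hgn⟩ : ∃ g ∈ (S : Subgroup G), g ∉ P1 ∧
      ∀ a ∈ P1, g * a * g⁻¹ ∈ P1 := by
    haveI : Group.IsNilpotent (S : Subgroup G) := S.2.isNilpotent
    have hlt' : P1.subgroupOf (S : Subgroup G) < ⊤ := by
      refine lt_top_iff_ne_top.mpr fun e => hlt.ne (le_antisymm hP1S ?_)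
      exact Subgroup.subgroupOf_eq_top.mp e
    obtain ⟨y, hy, hyn⟩ := SetLike.exists_of_lt (Group.normalizerCondition_of_isNilpotent _ hlt')
    refine ⟨y, y.2, fun h => hyn (Subgroup.mem_subgroupOf.mpr h), fun a ha => ?_⟩
    exact Subgroup.mem_subgroupOf.mp
      ((Subgroup.mem_normalizer_iff.mp hy ⟨a, hP1S ha⟩).mp (Subgroup.mem_subgroupOf.mpr ha))
  set t' := g * t * g⁻¹ with ht'
  have ht'2 : orderOf t' = 2 :=
    (orderOf_injective (MulAut.conj g).toMonoidHom (MulAut.conj g).injective t).trans ht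
  have ht'ne : t' ≠ t := fun e => hgP ⟨hgS, mem_cen.mpr (mul_inv_eq_iff_eq_mul.mp e)⟩
  have ht'P : t' ∈ P1 := hgn t htP
  have ht'x : t' * x ≠ x * t' := fun e =>
    ht'ne (conj_eq_of_cen_eq hM hR ht (cen_eq_of_commute hM hR ht ht'2 hx hxo hxt e.symm))
  have hF : Flip t x t' :=
    ⟨ht, hx, hxo, hxt, isConj_iff.mpr ⟨g, rfl⟩, mem_cen.mp ht'P.2, ht'x⟩
  -- `P1` meets `C(x)` in `<t>`
  have hPx : ∀ y ∈ P1, y * x = x * y → y = 1 ∨ y = t := by
    intro y hy hyx
    have hyt := mem_cen.mp hy.2
    have hi := conj_eq_inv_of_not_commute hM hR ht hz hx hxo hxt hzt hzx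
    have h := hF.sq_one_of_inverts hM hR (s := y * z)
      (by rw [mul_assoc, hzt, ← mul_assoc, hyt, mul_assoc])
      (by rw [show y * z * x * (y * z)⁻¹ = y * (z * x * z⁻¹) * y⁻¹ by group, hi, ← conj_inv, hyx,
        mul_inv_cancel_right])
    rw [show y * z * (y * z) = y * (z * y) * z by group, ← hzc y hy.1,
      show y * (y * z) * z = y * y * (z * z) by group, hz2, mul_one] at h
    by_cases h1 : y = 1
    · exact Or.inl h1
    · exact Or.inr (hF.eq_t_of_commute hM hR (orderOf_eq_prime (by rw [sq, h]) h1) hyx)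
  obtain ⟨s, hs, hgen⟩ := hF.exists_generator hM hR inf_le_right hPx
  have hst : Commute s t := mem_cen.mp hs.2
  obtain ⟨ks, hks⟩ := IsPGroup.iff_orderOf.mp S.2 ⟨s, hs.1⟩
  rw [Subgroup.orderOf_mk] at hks
  have hsq : ∀ y ∈ P1, y * y ∈ Subgroup.zpowers s := by
    intro y hy
    obtain ⟨i, hi⟩ := hgen y hy
    rcases hi with rfl | rfl
    · exact mul_mem (Subgroup.zpow_mem_zpowers _ _) (Subgroup.zpow_mem_zpowers _ _)
    · rw [show s ^ i * t * (s ^ i * t) = s ^ i * (t * s ^ i) * t by group, ← (hst.zpow_left i).eq,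
        show s ^ i * (s ^ i * t) * t = s ^ i * s ^ i * (t * t) by group, ht2, mul_one]
      exact mul_mem (Subgroup.zpow_mem_zpowers _ _) (Subgroup.zpow_mem_zpowers _ _)
  have hts : t ∉ Subgroup.zpowers s := by
    intro h
    have h1 : Commute s x := commute_of_mem_zpowers hM hR ht hks h hxo hxt
    obtain ⟨i, hi⟩ := hgen z hzP
    rcases hi with e | e <;> refine hzx ?_ <;> rw [e]
    · exact (h1.zpow_left i).eq
    · exact ((h1.zpow_left i).mul_left (show Commute t x from hxt.symm)).eq
  have hinv : ∀ v ∈ P1, orderOf v = 2 → v = t ∨ ∃ e ∈ Subgroup.zpowers s,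
      orderOf e = 2 ∧ (v = e ∨ v = e * t) := by
    intro v hv hv2
    obtain ⟨i, hi⟩ := hgen v hv
    have h2 : s ^ i * s ^ i = 1 := by
      rcases hi with e | e
      · rw [← e]; exact (orderOf_two hv2).1
      · have := (orderOf_two hv2).1
        rw [e, show s ^ i * t * (s ^ i * t) = s ^ i * (t * s ^ i) * t by group,
          ← (hst.zpow_left i).eq,
          show s ^ i * (s ^ i * t) * t = s ^ i * s ^ i * (t * t) by group, ht2, mul_one] at this
        exact this
    by_cases h1 : s ^ i = 1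
    · rcases hi with e | e
      · exact absurd (e.trans h1) (orderOf_two hv2).2
      · exact Or.inl (by rw [e, h1, one_mul])
    · exact Or.inr ⟨_, Subgroup.zpow_mem_zpowers s i, orderOf_eq_prime (by rw [sq, h2]) h1, hi⟩
  obtain ⟨e, hes, he2, hze⟩ := (hinv z hzP hz).resolve_left hzne
  obtain ⟨e', he's, he'2, ht'e⟩ := (hinv t' ht'P ht'2).resolve_left ht'ne
  obtain rfl : e' = e := eq_of_involutions_mem_zpowers he2 he'2 hes he's
  have ht'z : t' ≠ z := fun h => conj_ne_of_two_group hSz hx hxo hxt g⁻¹ (by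
    rw [inv_inv, ← h, ht']; group)
  have het : e' * t = t * e' := by
    obtain ⟨i, rfl⟩ := Subgroup.mem_zpowers_iff.mp hes
    exact (hst.zpow_left i).eq
  have ht'tz : t' = t * z := by
    rcases hze with h | h <;> rcases ht'e with h' | h'
    · exact absurd (h'.trans h.symm) ht'z
    · rw [h', h, het]
    · rw [h', h, het, ← mul_assoc, ht2, one_mul]
    · exact absurd (h'.trans h.symm) ht'z
  -- replace `s` so that `z` is one of its powers
  obtain ⟨s, hs, hts, hzs, hgen⟩ : ∃ s ∈ P1, t ∉ Subgroup.zpowers s ∧ z ∈ Subgroup.zpowers s ∧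
      ∀ y ∈ P1, ∃ k : ℤ, y = s ^ k ∨ y = s ^ k * t := by
    rcases hze with h | h
    · exact ⟨s, hs, hts, h ▸ hes, hgen⟩
    · by_cases hs2 : s * s = 1
      · have hse : e' = s := by
          have hs1 : s ≠ 1 := by
            rintro rfl
            simp only [Subgroup.zpowers_one_eq_bot, Subgroup.mem_bot] at hes
            exact (orderOf_two he2).2 hes
          exact eq_of_involutions_mem_zpowers (orderOf_eq_prime (by rw [sq, hs2]) hs1) he2
            (Subgroup.mem_zpowers s) hes
        refine ⟨z, hzP, fun hmem => hzne ?_, Subgroup.mem_zpowers z, fun y hy => ?_⟩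
        · exact (eq_of_involutions_mem_zpowers hz ht (Subgroup.mem_zpowers z) hmem).symm
        · have hsz : s = z * t := by rw [h, hse, mul_assoc, ht2, mul_one]
          obtain ⟨i, hi⟩ := hgen y hy
          have hzt' : Commute z t := hzt
          have key : s ^ i = z ^ i * t ^ i := by rw [hsz, hzt'.mul_zpow]
          have htp : t ^ i = 1 ∨ t ^ i = t := by
            rcases Int.even_or_odd' i with ⟨j, rfl | rfl⟩
            · left; rw [zpow_mul, zpow_two, ht2, one_zpow]
            · right; rw [zpow_add, zpow_mul, zpow_two, ht2, one_zpow, one_mul, zpow_one]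
          refine ⟨i, ?_⟩
          rcases htp with h1 | h1 <;> rcases hi with h2 | h2 <;> rw [h2, key, h1]
          · left; rw [mul_one]
          · right; rw [mul_one]
          · right; rfl
          · left; rw [mul_assoc, ht2, mul_one]
      · -- `e'` is a square, hence fixed by `g`
        exfalso
        have ht'e' : t' = e' := by rw [ht'tz, h, het, ← mul_assoc, ht2, one_mul]
        obtain ⟨j, rfl⟩ : ∃ j, ks = j + 2 := by
          refine ⟨ks - 2, ?_⟩
          by_contra hk
          rcases (show ks = 0 ∨ ks = 1 by omega) with rfl | rfl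
          · rw [pow_zero, orderOf_eq_one_iff] at hks
            exact hs2 (by rw [hks, mul_one])
          · exact hs2 (orderOf_two (by simpa using hks)).1
        have hq : orderOf ((s ^ 2 ^ j) * (s ^ 2 ^ j)) = 2 := by
          rw [← pow_add, ← two_mul, ← pow_succ',
            orderOf_pow_of_dvd (by positivity) (hks ▸ pow_dvd_pow 2 (by omega)), hks,
            Nat.pow_div (by omega) (by norm_num), show j + 2 - (j + 1) = 1 by omega, pow_one]
        set q := s ^ 2 ^ j
        have hqP : q ∈ P1 := pow_mem hs _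
        have hqe : q * q = e' :=
          eq_of_involutions_mem_zpowers he2 hq hes
            (mul_mem (Subgroup.npow_mem_zpowers _ _) (Subgroup.npow_mem_zpowers _ _))
        have hge : g * e' * g⁻¹ = e' := by
          refine eq_of_involutions_mem_zpowers he2
            ((orderOf_injective (MulAut.conj g).toMonoidHom (MulAut.conj g).injective e').trans he2)
            hes ?_
          rw [← hqe, show g * (q * q) * g⁻¹ = g * q * g⁻¹ * (g * q * g⁻¹) by group]
          exact hsq _ (hgn q hqP)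
        have : t = e' := by
          have h3 : g⁻¹ * (g * e' * g⁻¹) * g = g⁻¹ * t' * g := by rw [hge, ht'e']
          rw [ht'] at h3
          simpa [mul_assoc] using h3.symm
        exact hts (this ▸ hes)
  have hst : Commute s t := mem_cen.mp hs.2
  have hinv2 : ∀ v ∈ P1, orderOf v = 2 → v = t ∨ v = z ∨ v = t * z := by
    intro v hv hv2
    obtain ⟨i, hi⟩ := hgen v hv
    have hc := hst.zpow_left i
    have h2 : s ^ i * s ^ i = 1 := by
      rcases hi with e | e
      · rw [← e]; exact (orderOf_two hv2).1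
      · have := (orderOf_two hv2).1
        rw [e, show s ^ i * t * (s ^ i * t) = s ^ i * (t * s ^ i) * t by group, ← hc.eq,
          show s ^ i * (s ^ i * t) * t = s ^ i * s ^ i * (t * t) by group, ht2, mul_one] at this
        exact this
    by_cases h1 : s ^ i = 1
    · rcases hi with e | e
      · exact absurd (e.trans h1) (orderOf_two hv2).2
      · exact Or.inl (by rw [e, h1, one_mul])
    · have h3 : s ^ i = z := eq_of_involutions_mem_zpowers hz
        (orderOf_eq_prime (by rw [sq, h2]) h1) hzs (Subgroup.zpow_mem_zpowers s i)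
      rcases hi with e | e
      · exact Or.inr (Or.inl (e.trans h3))
      · exact Or.inr (Or.inr (by rw [e, h3, hzt]))
  -- `N(P1) = S`
  have hN : Subgroup.normalizer (P1 : Set G) = (S : Subgroup G) := by
    have hle : Subgroup.normalizer (P1 : Set G) ≤
        Subgroup.normalizer ((Subgroup.zpowers z : Subgroup G) : Set G) := by
      rw [normalizer_zpowers_involution hz]
      intro n hn
      have h := (Subgroup.mem_normalizer_iff.mp hn z).mp hzP
      have h2 : orderOf (n * z * n⁻¹) = 2 :=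
        (orderOf_injective (MulAut.conj n).toMonoidHom (MulAut.conj n).injective z).trans hz
      rcases hinv2 _ h h2 with e | e | e
      · exact absurd e (conj_ne_of_two_group hSz hx hxo hxt n)
      · exact mem_cen.mpr (mul_inv_eq_iff_eq_mul.mp e)
      · refine absurd ?_ (conj_ne_of_two_group hSz hx hxo hxt (g⁻¹ * n))
        rw [show g⁻¹ * n * z * (g⁻¹ * n)⁻¹ = g⁻¹ * (n * z * n⁻¹) * g by group, e, ← ht'tz, ht']
        group
    have hP1p : IsPGroup 2 P1 := S.2.to_le hP1S
    have := normalizer_eq_of_le_pGroup hM hR Nat.prime_two Nat.prime_two hP1p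
      (fun e => ht1 (by simpa [e] using htP)) (isPGroup_zpowers (p := 2) (k := 1)
        (by rw [hz, pow_one])) (zpowers_ne_bot' hz1) hle
    rw [this, normalizer_zpowers_involution hz, hSz]
  refine ⟨s, hs.1, hst.eq, hts, hzs, fun y hy hyt => hgen y ⟨hy, mem_cen.mpr hyt⟩,
    fun y hy => ?_, g, hgS, ht'tz⟩
  have h := (Subgroup.mem_normalizer_iff.mp (hN.ge hy) t).mp htP
  rcases hinv2 _ h ((orderOf_injective (MulAut.conj y).toMonoidHom (MulAut.conj y).injective t).trans ht)
    with e | e | e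
  · exact Or.inl e
  · refine absurd ?_ (conj_ne_of_two_group hSz hx hxo hxt y⁻¹)
    rw [inv_inv, ← e]; group
  · exact Or.inr e

theorem false_of_noncentral {T : Subgroup G} [T.Normal] [IsSimpleGroup T]
    (hTns : ¬ Group.IsSolvable T) {t x : G} (ht : orderOf t = 2) (htT : t ∈ T)
    (hx : (orderOf x).Prime) (hxo : Odd (orderOf x)) (hxt : x * t = t * x)
    (hcz : ∀ z ∈ T, orderOf z = 2 → ∀ S : Sylow 2 G, (S : Subgroup G) ≤ Cen z →
      IsPGroup 2 (Cen z)) : False := by
  classical
  haveI : Fact (Nat.Prime 2) := ⟨Nat.prime_two⟩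
  obtain ⟨P0⟩ : Nonempty (Sylow 2 (Cen t)) := inferInstance
  obtain ⟨S, hS⟩ := (P0.2.map (Cen t).subtype).exists_le_sylow
  have htS : t ∈ (S : Subgroup G) := by
    obtain ⟨P, hP⟩ := (isPGroup_zpowers (p := 2) (k := 1)
      (y := (⟨t, mem_cen.mpr rfl⟩ : Cen t)) (by rw [Subgroup.orderOf_mk, ht, pow_one])).exists_le_sylow
    obtain ⟨c, hc⟩ := MulAction.exists_smul_eq (Cen t) P P0
    have h1 := Subgroup.smul_mem_pointwise_smul (⟨t, mem_cen.mpr rfl⟩ : Cen t) (MulAut.conj c) _
      (hP (Subgroup.mem_zpowers _))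
    rw [← Sylow.coe_subgroup_smul, show MulAut.conj c • (⟨t, mem_cen.mpr rfl⟩ : Cen t) =
      ⟨t, mem_cen.mpr rfl⟩ from Subtype.ext (by
        show (c : G) * t * (c : G)⁻¹ = t
        rw [mem_cen.mp c.2, mul_inv_cancel_right])] at h1
    rw [hc] at h1
    exact hS ⟨_, h1, rfl⟩
  have hmax : ∀ P : Subgroup G, IsPGroup 2 P → P ≤ Cen t →
      (S : Subgroup G) ⊓ Cen t ≤ P → P ≤ (S : Subgroup G) := by
    intro P hP hPt hle
    have h1 : (P0 : Subgroup (Cen t)) ≤ P.subgroupOf (Cen t) := fun y hy =>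
      Subgroup.mem_subgroupOf.mpr (hle ⟨hS ⟨y, hy, rfl⟩, y.2⟩)
    have h2 := P0.3 (hP.comap_of_injective (Cen t).subtype (Cen t).subtype_injective) h1
    intro y hy
    exact hS ⟨⟨y, hPt hy⟩, h2.le (Subgroup.mem_subgroupOf.mpr hy), rfl⟩
  -- a central involution of `S` in `T`
  obtain ⟨z, hzS, hzT, hz2, hzc⟩ : ∃ z, z ∈ (S : Subgroup G) ∧ z ∈ T ∧ orderOf z = 2 ∧
      ∀ y ∈ (S : Subgroup G), y * z = z * y := by
    haveI : Nontrivial (T.subgroupOf (S : Subgroup G)) := by
      refine ⟨⟨⟨⟨t, htS⟩, htT⟩, 1, fun e => (orderOf_two ht).2 ?_⟩⟩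
      exact congrArg (fun a => ((a.1 : (S : Subgroup G)) : G)) e
    haveI : (T.subgroupOf (S : Subgroup G)).Normal := inferInstance
    obtain ⟨c, hc⟩ := exists_prime_orderOf_dvd_card'
      (G := (T.subgroupOf (S : Subgroup G) ⊓ Subgroup.center (S : Subgroup G) : Subgroup _)) 2 (by
        have hne := CfsgLib.PGroup.inf_center_ne_bot S.2 (T.subgroupOf (S : Subgroup G))
          (nontrivial_iff_ne_bot _ |>.mp inferInstance)
        obtain ⟨n, hn⟩ := IsPGroup.iff_card.mp
          (S.2.to_subgroup (T.subgroupOf (S : Subgroup G) ⊓ Subgroup.center (S : Subgroup G)))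
        rcases n with - | n
        · exact absurd (Subgroup.card_eq_one.mp (by simpa using hn)) hne
        · exact hn ▸ dvd_pow_self 2 (Nat.succ_ne_zero n))
    refine ⟨(c.1 : (S : Subgroup G)), c.1.2, c.2.1, ?_, fun y hy => ?_⟩
    · rw [Subgroup.orderOf_coe, Subgroup.orderOf_coe]; exact hc
    · exact congrArg Subtype.val (Subgroup.mem_center_iff.mp c.2.2 ⟨y, hy⟩)
  have hSz : Cen z = (S : Subgroup G) := by
    exact S.3 (hcz z hzT hz2 S fun y hy => mem_cen.mpr (hzc y hy)) fun y hy =>
      mem_cen.mpr (hzc y hy)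
  obtain ⟨s, hsS, hst, hts, hzs, hgen, horb, g0, hg0S, hg0⟩ :=
    noncentral_structure hM hR hz2 hSz ht htS hx hxo hxt hmax
  -- `2`-subgroups of `C(t)` are abelian
  have habel : ∀ P : Subgroup G, IsPGroup 2 P → P ≤ Cen t → ∀ a ∈ P, ∀ b ∈ P, a * b = b * a := by
    intro P hP hPt a ha b hb
    obtain ⟨R, hR'⟩ := (hP.comap_of_injective (Cen t).subtype (Cen t).subtype_injective).exists_le_sylow
    obtain ⟨c, hc⟩ := MulAction.exists_smul_eq (Cen t) R P0
    have hmove : ∀ y (hy : y ∈ P), ((c * ⟨y, hPt hy⟩ * c⁻¹ : Cen t) : G) ∈ (S : Subgroup G) := by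
      intro y hy
      refine hS ⟨c * ⟨y, hPt hy⟩ * c⁻¹, ?_, rfl⟩
      rw [← hc, Sylow.coe_subgroup_smul]
      exact Subgroup.smul_mem_pointwise_smul (⟨y, hPt hy⟩ : Cen t) (MulAut.conj c) _ (hR' hy)
    have hcomm : ∀ p q : G, p ∈ (S : Subgroup G) → p * t = t * p → q ∈ (S : Subgroup G) →
        q * t = t * q → p * q = q * p := by
      intro p q hp hpt hq hqt
      have hc1 : ∀ i j : ℤ, Commute (s ^ i) (s ^ j) := fun i j => Commute.zpow_zpow (Commute.refl s) i j
      have hc2 : ∀ i : ℤ, Commute (s ^ i) t := fun i => (show Commute s t from hst).zpow_left i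
      obtain ⟨i, hi⟩ := hgen p hp hpt
      obtain ⟨j, hj⟩ := hgen q hq hqt
      rcases hi with rfl | rfl <;> rcases hj with rfl | rfl
      · exact (hc1 i j).eq
      · exact ((hc1 i j).mul_right (hc2 i)).eq
      · exact ((hc1 i j).mul_left (hc2 j).symm).eq
      · exact (((hc1 i j).mul_left (hc2 j).symm).mul_right
          ((hc2 i).mul_left (Commute.refl t))).eq
    have h := hcomm _ _ (hmove a ha) (mem_cen.mp (c * ⟨a, hPt ha⟩ * c⁻¹ : Cen t).2) (hmove b hb)
      (mem_cen.mp (c * ⟨b, hPt hb⟩ * c⁻¹ : Cen t).2)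
    simp only [Subgroup.coe_mul, InvMemClass.coe_inv] at h
    have := congrArg (fun y => (c : G)⁻¹ * y * (c : G)) h
    simpa [mul_assoc] using this
  -- `z` is not isolated
  obtain ⟨h0, hwc, hwne⟩ : ∃ g, Commute z (g * z * g⁻¹) ∧ g * z * g⁻¹ ≠ z := by
    by_contra hno
    push Not at hno
    have hZ := CfsgLib.ZStar.inZStar_of_isolated hz2 hno
    have hO : Cfsg.pPrimeCore 2 G = ⊥ := by
      refine hR _ inferInstance (Cfsg.Agent.S0205.result ?_)
      rw [← Nat.not_even_iff_odd, even_iff_two_dvd]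
      exact CfsgLib.Constrained.pPrimeCore_not_dvd
    have hc : ∀ g : G, g * z * g⁻¹ = z := fun g => mul_inv_eq_one.mp (by
      have := hZ g; rwa [hO, Subgroup.mem_bot] at this)
    refine (orderOf_two hz2).2 ?_
    have hn : (Subgroup.zpowers z).Normal :=
      ⟨fun a ha g => by
        obtain ⟨i, rfl⟩ := Subgroup.mem_zpowers_iff.mp ha
        rw [← conj_zpow, hc g]
        exact Subgroup.zpow_mem_zpowers _ _⟩
    simpa [Subgroup.zpowers_eq_bot] using hR _ hn inferInstance
  set w := h0 * z * h0⁻¹ with hw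
  have hw2 : orderOf w = 2 :=
    (orderOf_injective (MulAut.conj h0).toMonoidHom (MulAut.conj h0).injective z).trans hz2
  have hwS : w ∈ (S : Subgroup G) := hSz.le (mem_cen.mpr hwc.eq.symm)
  have hwz : ∀ c, c * w * c⁻¹ ≠ t := fun c hc =>
    conj_ne_of_two_group hSz hx hxo hxt (c * h0) (by rw [← hc, hw]; group)
  obtain ⟨hww, hw1⟩ := orderOf_two hw2
  obtain ⟨ht2, ht1⟩ := orderOf_two ht
  obtain ⟨hzz, hz1⟩ := orderOf_two hz2
  have hzt : z * t = t * z := (hzc t htS).symm
  have hwt : w * t ≠ t * w := by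
    intro h
    obtain ⟨i, hi⟩ := hgen w hwS h
    have hc : Commute (s ^ i) t := (show Commute s t from hst).zpow_left i
    have h2 : s ^ i * s ^ i = 1 := by
      rcases hi with e | e
      · rw [← e]; exact hww
      · have := hww
        rw [e, show s ^ i * t * (s ^ i * t) = s ^ i * (t * s ^ i) * t by group, ← hc.eq,
          show s ^ i * (s ^ i * t) * t = s ^ i * s ^ i * (t * t) by group, ht2, mul_one] at this
        exact this
    by_cases h1 : s ^ i = 1
    · rcases hi with e | e
      · exact hw1 (e.trans h1)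
      · exact hwz 1 (by rw [e, h1]; group)
    · have h3 : s ^ i = z := eq_of_involutions_mem_zpowers hz2
        (orderOf_eq_prime (by rw [sq, h2]) h1) hzs (Subgroup.zpow_mem_zpowers s i)
      rcases hi with e | e
      · exact hwne (e.trans h3)
      · refine hwz g0⁻¹ ?_
        rw [e, h3, hzt, ← hg0]; group
  have hwt' : w * t * w⁻¹ = t * z :=
    (horb w hwS).resolve_left fun e => hwt (mul_inv_eq_iff_eq_mul.mp e)
  -- normalise the choice of `s`
  obtain ⟨s, hsS, hst, hts, hzs, hgen, hgood⟩ : ∃ s, s ∈ (S : Subgroup G) ∧ s * t = t * s ∧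
      t ∉ Subgroup.zpowers s ∧ z ∈ Subgroup.zpowers s ∧
      (∀ y ∈ (S : Subgroup G), y * t = t * y → ∃ k : ℤ, y = s ^ k ∨ y = s ^ k * t) ∧
      ¬ (s * s = z ∧ w * s * w⁻¹ = s * z) := by
    by_cases hbad : s * s = z ∧ w * s * w⁻¹ = s * z
    · have hst' : Commute s t := hst
      have hq : (s * t) * (s * t) = z := by
        rw [show s * t * (s * t) = s * (t * s) * t by group, ← hst,
          show s * (s * t) * t = s * s * (t * t) by group, ht2, mul_one, hbad.1]
      refine ⟨s * t, mul_mem hsS htS, (hst'.mul_left (Commute.refl t)).eq, ?_,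
        hq ▸ mul_mem (Subgroup.mem_zpowers _) (Subgroup.mem_zpowers _), fun y hy hyt => ?_, ?_⟩
      · intro hmem
        exact (fun e : t = z => conj_ne_of_two_group hSz hx hxo hxt 1 (by rw [e]; group))
          (eq_of_involutions_mem_zpowers hz2 ht
            (hq ▸ mul_mem (Subgroup.mem_zpowers _) (Subgroup.mem_zpowers _)) hmem)
      · obtain ⟨i, hi⟩ := hgen y hy hyt
        refine ⟨i, ?_⟩
        have htp : t ^ i = 1 ∨ t ^ i = t := by
          rcases Int.even_or_odd' i with ⟨j, rfl | rfl⟩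
          · left; rw [zpow_mul, zpow_two, ht2, one_zpow]
          · right; rw [zpow_add, zpow_mul, zpow_two, ht2, one_zpow, one_mul, zpow_one]
        rcases htp with h1 | h1 <;> rcases hi with h2 | h2 <;> rw [h2, hst'.mul_zpow, h1]
        · left; rw [mul_one]
        · right; rw [mul_one]
        · right; rw [mul_assoc, ht2, mul_one]
        · left; rfl
      · rintro ⟨-, h⟩
        rw [show w * (s * t) * w⁻¹ = w * s * w⁻¹ * (w * t * w⁻¹) by group, hbad.2, hwt',
          show s * z * (t * z) = s * (z * t) * z by group, hzt,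
          show s * (t * z) * z = s * t * (z * z) by group, hzz, mul_one] at h
        exact hz1 (mul_left_cancel (a := s * t) (by rw [mul_one]; exact h.symm))
    · exact ⟨s, hsS, hst, hts, hzs, hgen, hbad⟩
  have hst' : Commute s t := hst
  obtain ⟨ks, hks⟩ := IsPGroup.iff_orderOf.mp S.2 ⟨s, hsS⟩
  rw [Subgroup.orderOf_mk] at hks
  have hs1 : s ≠ 1 := by
    rintro rfl
    simp only [Subgroup.zpowers_one_eq_bot, Subgroup.mem_bot] at hzs
    exact hz1 hzs
  have hNs : Subgroup.normalizer ((Subgroup.zpowers s : Subgroup G) : Set G) = (S : Subgroup G) := by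
    have hle : Subgroup.normalizer ((Subgroup.zpowers s : Subgroup G) : Set G) ≤
        Subgroup.normalizer ((Subgroup.zpowers z : Subgroup G) : Set G) := by
      rw [normalizer_zpowers_involution hz2]
      intro n hn
      refine mem_cen.mpr (mul_inv_eq_iff_eq_mul.mp (eq_of_involutions_mem_zpowers hz2 ?_ hzs
        ((Subgroup.mem_normalizer_iff.mp hn z).mp hzs)))
      exact (orderOf_injective (MulAut.conj n).toMonoidHom (MulAut.conj n).injective z).trans hz2
    have := normalizer_eq_of_le_pGroup hM hR Nat.prime_two Nat.prime_two (isPGroup_zpowers hks)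
      (zpowers_ne_bot' hs1) (isPGroup_zpowers (p := 2) (k := 1) (by rw [hz2, pow_one]))
      (zpowers_ne_bot' hz1) hle
    rw [this, normalizer_zpowers_involution hz2, hSz]
  set M := Subgroup.zpowers s ⊔ Subgroup.zpowers w with hMdef
  have hwn : Subgroup.zpowers w ≤
      Subgroup.normalizer ((Subgroup.zpowers s : Subgroup G) : Set G) := by
    rw [hNs]; exact Subgroup.zpowers_le.mpr hwS
  have hMel : ∀ y ∈ M, ∃ k : ℤ, y = s ^ k ∨ y = s ^ k * w := by
    intro y hy
    have hy' : y ∈ (M : Set G) := hy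
    rw [hMdef, Subgroup.coe_mul_of_right_le_normalizer_left _ _ hwn] at hy'
    obtain ⟨a, ha, b, hb, rfl⟩ := Set.mem_mul.mp hy'
    obtain ⟨k, rfl⟩ := Subgroup.mem_zpowers_iff.mp ha
    obtain ⟨j, rfl⟩ := Subgroup.mem_zpowers_iff.mp hb
    refine ⟨k, ?_⟩
    rcases Int.even_or_odd' j with ⟨i, rfl | rfl⟩
    · left; rw [zpow_mul, zpow_two, hww, one_zpow, mul_one]
    · right; rw [zpow_add, zpow_mul, zpow_two, hww, one_zpow, one_mul, zpow_one]
  have htM : t ∉ M := by
    intro h
    obtain ⟨k, hk | hk⟩ := hMel t h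
    · exact hts (hk ▸ Subgroup.zpow_mem_zpowers s k)
    · refine hwt ?_
      have e : w = (s ^ k)⁻¹ * t := by rw [hk]; group
      rw [e]
      exact (((hst'.zpow_left k).inv_left).mul_left (Commute.refl t)).eq
  have hsM : s ∈ M := Subgroup.mem_sup_left (Subgroup.mem_zpowers s)
  have hwM : w ∈ M := Subgroup.mem_sup_right (Subgroup.mem_zpowers w)
  have hcover : ∀ y ∈ (S : Subgroup G), y ∈ M ∨ y * t ∈ M := by
    intro y hy
    have key : ∀ q ∈ (S : Subgroup G), q * t = t * q → q ∈ M ∨ q * t ∈ M := by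
      intro q hq hqt
      obtain ⟨k, hk | hk⟩ := hgen q hq hqt
      · exact Or.inl (hk ▸ zpow_mem hsM k)
      · exact Or.inr (by rw [hk, mul_assoc, ht2, mul_one]; exact zpow_mem hsM k)
    by_cases hyt : y * t = t * y
    · exact key y hy hyt
    · have h1 : y * t * y⁻¹ = t * z :=
        (horb y hy).resolve_left fun e => hyt (mul_inv_eq_iff_eq_mul.mp e)
      have h2 : w⁻¹ * y * t = t * (w⁻¹ * y) := by
        refine mul_inv_eq_iff_eq_mul.mp ?_
        rw [show w⁻¹ * y * t * (w⁻¹ * y)⁻¹ = w⁻¹ * (y * t * y⁻¹) * w by group, h1, ← hwt']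
        group
      rcases key _ (mul_mem (inv_mem hwS) hy) h2 with h | h
      · exact Or.inl (by have := mul_mem hwM h; rwa [mul_inv_cancel_left] at this)
      · exact Or.inr (by
          have := mul_mem hwM h
          rwa [show w * (w⁻¹ * y * t) = y * t by group] at this)
  -- no conjugate of `t` lies in `M`
  have hno : ∀ c : G, c * t * c⁻¹ ∉ M := by
    intro c hc
    set v := c * t * c⁻¹ with hv
    have hv2 : orderOf v = 2 :=
      (orderOf_injective (MulAut.conj c).toMonoidHom (MulAut.conj c).injective t).trans ht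
    have hvz : ∀ d, d * z * d⁻¹ ≠ v := fun d hd =>
      conj_ne_of_two_group hSz hx hxo hxt (c⁻¹ * d) (by
        rw [show c⁻¹ * d * z * (c⁻¹ * d)⁻¹ = c⁻¹ * (d * z * d⁻¹) * c by group, hd, hv]; group)
    have hMS : M ≤ (S : Subgroup G) :=
      sup_le (Subgroup.zpowers_le.mpr hsS) (Subgroup.zpowers_le.mpr hwS)
    have hvS := hMS hc
    obtain ⟨k, hk⟩ := hMel v hc
    rcases hk with hk | hk
    · exact hvz 1 (by
        rw [eq_of_involutions_mem_zpowers hz2 hv2 hzs (hk ▸ Subgroup.zpow_mem_zpowers s k)]; group)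
    set x' := c * x * c⁻¹ with hx'
    have hx'o : orderOf x' = orderOf x :=
      orderOf_injective (MulAut.conj c).toMonoidHom (MulAut.conj c).injective x
    have hx'v : x' * v = v * x' := by
      rw [hx', hv, show c * x * c⁻¹ * (c * t * c⁻¹) = c * (x * t) * c⁻¹ by group, hxt]; group
    obtain ⟨-, -, -, -, -, -, horbv, -⟩ := noncentral_structure hM hR hz2 hSz hv2 hvS
      (hx'o ▸ hx) (hx'o ▸ hxo) hx'v (fun P hP hPv hle y hy => by
        refine hSz.le (mem_cen.mpr ?_)
        have hzP : z ∈ P := hle ⟨hzS, mem_cen.mpr (hzc v hvS).symm⟩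
        have h := habel (P.map (MulAut.conj c⁻¹).toMonoidHom) (hP.map _) (fun q hq => by
          obtain ⟨a, ha, rfl⟩ := Subgroup.mem_map.mp hq
          refine mem_cen.mpr ?_
          have := mem_cen.mp (hPv ha)
          show c⁻¹ * a * c⁻¹⁻¹ * t = t * (c⁻¹ * a * c⁻¹⁻¹)
          rw [show t = c⁻¹ * v * c⁻¹⁻¹ by rw [hv]; group,
            show c⁻¹ * a * c⁻¹⁻¹ * (c⁻¹ * v * c⁻¹⁻¹) = c⁻¹ * (a * v) * c⁻¹⁻¹ by group, this]
          group) _ ⟨y, hy, rfl⟩ _ ⟨z, hzP, rfl⟩
        exact (MulAut.conj c⁻¹).injective (by rw [map_mul, map_mul]; exact h))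
    have hzv : z * v = v * z := (hzc v hvS).symm
    have hzsc : z * s = s * z := (hzc s hsS).symm
    -- `w` conjugates `s` like `v`
    have hws : w * s * w⁻¹ = s ∨ w * s * w⁻¹ = s * z := by
      have e : v * s * v⁻¹ = w * s * w⁻¹ := by
        obtain ⟨i, hi⟩ := Subgroup.mem_zpowers_iff.mp
          ((Subgroup.mem_normalizer_iff.mp (hwn (Subgroup.mem_zpowers w)) s).mp
            (Subgroup.mem_zpowers s))
        rw [hk, show s ^ k * w * s * (s ^ k * w)⁻¹ = s ^ k * (w * s * w⁻¹) * (s ^ k)⁻¹ by group,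
          ← hi, ((Commute.refl s).zpow_zpow k i).eq, mul_inv_cancel_right]
      rw [← e]
      rcases horbv s hsS with h | h
      · left
        rw [← mul_inv_eq_iff_eq_mul.mp h, mul_inv_cancel_right]
      · right
        have h1 : s * v = v * z * s := mul_inv_eq_iff_eq_mul.mp h
        have hvv := (orderOf_two hv2).1
        rw [inv_eq_of_mul_eq_one_right hvv]
        calc v * s * v = v * (s * v) := by group
          _ = v * v * (z * s) := by rw [h1]; group
          _ = z * s := by rw [hvv, one_mul]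
          _ = s * z := hzsc
    have hvv : s ^ k * (w * s * w⁻¹) ^ k = 1 := by
      have h := (orderOf_two hv2).1
      rw [hk] at h
      rw [conj_zpow, inv_eq_of_mul_eq_one_right hww, ← h]
      group
    have hkey : s ^ k * s ^ k = 1 → False := by
      intro h2
      have hconjw : ∀ d, d * w * d⁻¹ ≠ v := fun d hd => hvz (d * h0) (by rw [← hd, hw]; group)
      by_cases h1 : s ^ k = 1
      · exact hconjw 1 (by rw [hk, h1]; group)
      · have h3 : s ^ k = z := eq_of_involutions_mem_zpowers hz2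
          (orderOf_eq_prime (by rw [sq, h2]) h1) hzs (Subgroup.zpow_mem_zpowers s k)
        refine hconjw t ?_
        have ht' : t⁻¹ = t := inv_eq_of_mul_eq_one_right ht2
        rw [hk, h3, ht']
        calc t * w * t = t * (w * t * w⁻¹) * w := by group
          _ = t * (t * z) * w := by rw [hwt']
          _ = z * w := by rw [← mul_assoc t t z, ht2, one_mul]
    rcases hws with e | e
    · rw [e] at hvv; exact hkey hvv
    · rw [e, (show Commute s z from hzsc.symm).mul_zpow, ← mul_assoc] at hvv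
      rcases Int.even_or_odd' k with ⟨j, hj | hj⟩
      · refine hkey ?_
        rwa [show z ^ k = 1 by rw [hj, zpow_mul, zpow_two, hzz, one_zpow], mul_one] at hvv
      · have hzk : z ^ k = z := by
          rw [hj, zpow_add, zpow_mul, zpow_two, hzz, one_zpow, one_mul, zpow_one]
        rw [hzk] at hvv
        have hs4 : (s * s) ^ k = z := by
          rw [(Commute.refl s).mul_zpow, eq_inv_of_mul_eq_one_left hvv,
            inv_eq_of_mul_eq_one_right hzz]
        have hord : orderOf s ∣ 4 := by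
          have h4 : ((orderOf s : ℕ) : ℤ) ∣ 4 * k := by
            rw [orderOf_dvd_iff_zpow_eq_one, show (4 : ℤ) * k = ((2 : ℕ) : ℤ) * k * 2 by push_cast; ring,
              zpow_mul, zpow_mul, zpow_natCast, sq, hs4, zpow_two, hzz]
          have hco : IsCoprime ((orderOf s : ℕ) : ℤ) k := by
            rw [hks]; push_cast
            exact IsCoprime.pow_left ⟨-j, 1, by rw [hj]; ring⟩
          exact Int.natCast_dvd_natCast.mp (by exact_mod_cast hco.dvd_of_dvd_mul_right h4)
        refine hgood ⟨?_, e⟩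
        have hss : s * s ≠ 1 := fun h => hz1 (by rw [← hs4, h, one_zpow])
        refine eq_of_involutions_mem_zpowers hz2 (orderOf_eq_prime ?_ hss) hzs
          (mul_mem (Subgroup.mem_zpowers _) (Subgroup.mem_zpowers _))
        rw [← sq, ← pow_mul]
        exact orderOf_dvd_iff_pow_eq_one.mp hord
  -- transfer
  obtain ⟨S₀, hS₀⟩ := CfsgLib.TwoIndices.exists_sylow_subgroupOf (N := T) S
  have htS₀ : (⟨t, htT⟩ : T) ∈ (S₀ : Subgroup T) := by
    rw [hS₀, Subgroup.mem_subgroupOf]; exact htS
  have hrel : ((S₀ : Subgroup T) ⊓ M.subgroupOf T).relIndex (S₀ : Subgroup T) = 2 := by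
    refine Subgroup.index_eq_two_iff.mpr ⟨⟨⟨t, htT⟩, htS₀⟩, fun b => ?_⟩
    simp only [Subgroup.mem_subgroupOf, Subgroup.mem_inf, SetLike.coe_mem, true_and,
      Subgroup.coe_mul]
    have hb : ((b : T) : G) ∈ (S : Subgroup G) := by
      exact Subgroup.mem_subgroupOf.mp (hS₀.le b.2)
    by_cases hbM : ((b : T) : G) ∈ M
    · refine Or.inr ⟨hbM, fun h => htM ?_⟩
      have := mul_mem (inv_mem hbM) h.2
      rwa [inv_mul_cancel_left] at this
    · exact Or.inl ⟨⟨mul_mem b.2 htS₀, (hcover _ hb).resolve_left hbM⟩, hbM⟩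
  rcases Cfsg.Agent.S0111.result S₀ ((S₀ : Subgroup T) ⊓ M.subgroupOf T) inf_le_left hrel ⟨t, htT⟩
    (by rw [Subgroup.orderOf_mk, ht]) htS₀ (fun h => htM h.2) with ⟨N, hNn, hNi, -⟩ | ⟨b, hb⟩
  · rcases hNn.eq_bot_or_eq_top with e | e
    · rw [e, Subgroup.index_bot] at hNi
      haveI : Group.IsNilpotent T :=
        IsPGroup.isNilpotent (IsPGroup.of_card (p := 2) (n := 1) (by rw [hNi, pow_one]))
      exact hTns inferInstance
    · rw [e, Subgroup.index_top] at hNi; omega
  · exact hno b hb.2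

end CfsgLib.MaxNorm
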