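import Cfsg.Agent.MaxNorm.Rotations
import Cfsg.Agent.Dickson.MaxCoatom
import Cfsg.Agent.SL2.PSL

/-!
`PSL(2, q)` as a normal subgroup of a group with maximal normalisers: `q` is a small prime.
-/

set_option autoImplicit false

namespace CfsgLib.MaxNorm

open Matrix DihedralGroup
open scoped MatrixGroups

variable {G : Type*} [Group G] [Finite G] {F : Type} [Field F] [Fintype F]

theorem exists_sq_sub_sq (h2 : (2 : F) ≠ 0) (z : F) : ∃ a b : F, a ^ 2 - b ^ 2 = z :=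
  ⟨(z + 1) / 2, (z - 1) / 2, by field_simp; ring⟩

/-- The root group has prime order. -/
theorem MaxNormalizers.prime_card (hM : MaxNormalizers G) (hR : NoSolvNormal G) {T : Subgroup G}
    [T.Normal] (hodd : Odd (Fintype.card F))
    (e : T ≃* Matrix.ProjectiveSpecialLinearGroup (Fin 2) F) : (Fintype.card F).Prime := by
  classical
  obtain ⟨p, _⟩ := CharP.exists F
  haveI : Fact p.Prime := ⟨CharP.char_is_prime F p⟩
  have h2 := SL2.two_ne_zero_iff_odd.2 hodd
  set f : Matrix.SpecialLinearGroup (Fin 2) F →* G :=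
    T.subtype.comp (e.symm.toMonoidHom.comp SL2.pmk) with hfdef
  have hfT : ∀ s, f s ∈ T := fun s => (e.symm (SL2.pmk s)).2
  have hfe : ∀ s, e ⟨f s, hfT s⟩ = SL2.pmk s := fun s => e.apply_symm_apply _
  have hf_eq : ∀ s t, f s = f t → s = t ∨ s = -t := fun s t h =>
    SL2.pmk_eq_iff.1 (by rw [← hfe, ← hfe]; congr 1; exact Subtype.ext h)
  have hsurj : ∀ g ∈ T, ∃ s, f s = g := by
    intro g hg
    obtain ⟨s, hs⟩ := SL2.pmk_surjective (e ⟨g, hg⟩)
    exact ⟨s, by rw [hfdef]; simp [hs]⟩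
  set X := Subgroup.zpowers (f (SL2.u 1))
  set C := T ⊓ Subgroup.centralizer (X : Set G)
  have hneg : ∀ b : F, SL2.u b ≠ -SL2.u (1 : F) := fun b h => h2 (by
    have h1 := congrArg (fun g : Matrix.SpecialLinearGroup (Fin 2) F => g 0 0) h
    simp at h1
    linear_combination h1)
  have hCu : ∀ g ∈ C, ∃ b : F, g = f (SL2.u b) := by
    intro g hg
    obtain ⟨s, rfl⟩ := hsurj g hg.1
    have hc := hg.2 _ (Subgroup.mem_zpowers (f (SL2.u 1)))
    rw [← map_mul, ← map_mul] at hc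
    have hcomm : SL2.u 1 * s = s * SL2.u 1 := by
      rcases hf_eq _ _ hc with h | h
      · exact h
      · exfalso
        have h3 := SL2.trace_conj (SL2.u (1 : F)) s
        have h4 : s * SL2.u 1 * s⁻¹ = -SL2.u 1 := by
          rw [mul_inv_eq_iff_eq_mul, neg_mul, h, neg_neg]
        rw [h4] at h3
        simp [Matrix.trace_fin_two] at h3
        exact mul_ne_zero h2 h2 (by linear_combination -h3)
    have e00 := congrArg (fun g : Matrix.SpecialLinearGroup (Fin 2) F => g 0 0) hcomm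
    have e01 := congrArg (fun g : Matrix.SpecialLinearGroup (Fin 2) F => g 0 1) hcomm
    simp [Matrix.mul_apply, Fin.sum_univ_two] at e00 e01
    have hd := SL2.det_eq s
    rw [e00] at hd
    have h11 : s 1 1 = s 0 0 := by linear_combination e01
    rw [h11] at hd
    have hsq : (s 0 0 - 1) * (s 0 0 + 1) = 0 := by linear_combination hd
    rcases mul_eq_zero.mp hsq with h | h
    · refine ⟨s 0 1, congrArg f ?_⟩
      apply SL2.ext4 <;> simp [e00, h11] <;> linear_combination h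
    · refine ⟨-s 0 1, ?_⟩
      have hs : s = -SL2.u (-s 0 1) := by
        apply SL2.ext4 <;> simp [e00, h11] <;> linear_combination h
      show f s = _
      conv_lhs => rw [hs]
      show T.subtype (e.symm (SL2.pmk _)) = _
      rw [SL2.pmk_neg]
      rfl
  have hp1 : ∀ b : F, f (SL2.u b) ^ p = 1 := fun b => by
    rw [← map_pow, SL2.u_pow, CharP.cast_eq_zero, zero_mul, SL2.u_zero, map_one]
  have hne1 : f (SL2.u 1) ≠ 1 := fun h => by
    rcases hf_eq _ 1 (h.trans (map_one f).symm) with h | h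
    · exact one_ne_zero (SL2.u_eq_one_iff.mp h)
    · exact h2 (by
        have h1 := congrArg (fun g : Matrix.SpecialLinearGroup (Fin 2) F => g 0 0) h
        simp at h1
        linear_combination h1)
  have hX : IsPGroup p X := isPGroup_zpowers_of_orderOf_eq
    (k := 1) (by rw [pow_one]; exact orderOf_eq_prime (hp1 1) hne1)
  have hXne : X ≠ ⊥ := fun h => hne1 (Subgroup.zpowers_eq_bot.mp h)
  have hC : IsPGroup p C := fun g => by
    obtain ⟨b, hb⟩ := hCu g g.2
    exact ⟨1, Subtype.ext (by rw [pow_one, Subgroup.coe_pow, hb, hp1, Subgroup.coe_one])⟩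
  have hXC : X ≤ C := le_inf (Subgroup.zpowers_le.mpr (hfT _)) (Subgroup.zpowers_le.mpr (by
    refine Subgroup.mem_centralizer_iff.mpr fun y hy => ?_
    obtain ⟨k, rfl⟩ := Subgroup.mem_zpowers_iff.mp hy
    exact ((Commute.refl _).zpow_left k).eq))
  have hCne : C ≠ ⊥ := fun h => hXne (le_bot_iff.mp (h ▸ hXC))
  have hconj : ∀ g ∈ Subgroup.normalizer (X : Set G), ∀ a ∈ C, g * a * g⁻¹ ∈ C := by
    rintro g hg a ⟨haT, haX⟩
    refine ⟨Subgroup.Normal.conj_mem inferInstance a haT g, Subgroup.mem_centralizer_iff.mpr fun y hy => ?_⟩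
    have hy' : g⁻¹ * y * g ∈ X := (Subgroup.mem_normalizer_iff.mp hg _).mpr (by simpa [mul_assoc] using hy)
    have h := Subgroup.mem_centralizer_iff.mp haX _ hy'
    calc y * (g * a * g⁻¹) = g * ((g⁻¹ * y * g) * a) * g⁻¹ := by group
      _ = g * (a * (g⁻¹ * y * g)) * g⁻¹ := by rw [h]
      _ = g * a * g⁻¹ * y := by group
  have hle : Subgroup.normalizer (X : Set G) ≤ Subgroup.normalizer (C : Set G) := fun g hg =>
    Subgroup.mem_normalizer_iff.mpr fun a => ⟨hconj g hg a, fun ha => by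
      simpa [mul_assoc] using hconj g⁻¹ (inv_mem hg) _ ha⟩
  have heq := hM.normalizer_eq_of_le (not_isSubnormal_pGroup hR Fact.out hX hXne)
    (biprimary_of_isPGroup Fact.out hX) (not_isSubnormal_pGroup hR Fact.out hC hCne) hle
  have hd : ∀ a : Fˣ, f (SL2.d a) ∈ Subgroup.normalizer (C : Set G) := by
    have key : ∀ a : Fˣ, ∀ g ∈ C, f (SL2.d a) * g * (f (SL2.d a))⁻¹ ∈ C := by
      intro a g hg
      obtain ⟨b, rfl⟩ := hCu g hg
      rw [← map_mul, ← map_inv, ← map_mul, SL2.d_conj_u]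
      refine ⟨hfT _, Subgroup.mem_centralizer_iff.mpr fun y hy => ?_⟩
      obtain ⟨k, rfl⟩ := Subgroup.mem_zpowers_iff.mp hy
      refine ((Commute.zpow_left ?_) k).eq
      show f _ * f _ = f _ * f _
      rw [← map_mul, ← map_mul, ← SL2.u_add, ← SL2.u_add, add_comm]
    intro a
    refine Subgroup.mem_normalizer_iff.mpr fun g => ⟨key a g, fun hg => ?_⟩
    have h := key a⁻¹ _ hg
    simpa [mul_assoc] using h
  have hsq : ∀ a : F, ∃ k : ℕ, a ^ 2 = (k : F) := by
    intro a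
    by_cases ha : a = 0
    · exact ⟨0, by simp [ha]⟩
    have h1 := hd (Units.mk0 a ha)
    rw [← heq] at h1
    have h3 := (Subgroup.mem_normalizer_iff.mp h1 _).mp (Subgroup.mem_zpowers (f (SL2.u 1)))
    rw [← map_mul, ← map_inv, ← map_mul, SL2.d_conj_u, mul_one] at h3
    obtain ⟨k, hk : f (SL2.u 1) ^ k = _⟩ := mem_powers_iff_mem_zpowers.mpr h3
    rw [← map_pow, SL2.u_pow, mul_one, Units.val_mk0] at hk
    refine ⟨k, ?_⟩
    rcases hf_eq _ _ hk with h | h
    · exact (SL2.u_injective h).symm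
    · exfalso
      have h4 := congrArg (fun g : Matrix.SpecialLinearGroup (Fin 2) F => g 0 0) h
      simp at h4
      exact h2 (by linear_combination h4)
  have hrange : Function.Surjective (ZMod.castHom (dvd_refl p) F) := by
    intro z
    obtain ⟨a, b, rfl⟩ := exists_sq_sub_sq h2 z
    obtain ⟨i, hi⟩ := hsq a
    obtain ⟨j, hj⟩ := hsq b
    exact ⟨(i : ZMod p) - j, by rw [map_sub, map_natCast, map_natCast, hi, hj]⟩
  haveI : Fintype (ZMod p) := Fintype.ofFinite _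
  have h := Nat.card_le_card_of_surjective _ hrange
  rw [Nat.card_zmod, Nat.card_eq_fintype_card] at h
  obtain ⟨n, hp, hn⟩ := FiniteField.card F p
  rw [hn] at h ⊢
  have : (n : ℕ) = 1 := by
    by_contra h1
    have := Nat.pow_lt_pow_right hp.one_lt (show 1 < (n : ℕ) by have := n.pos; omega)
    rw [pow_one, ← hn] at this
    omega
  rw [this, pow_one]
  exact hp

/-- The two halved torus orders. -/
theorem MaxNormalizers.torus_cases (hM : MaxNormalizers G) (hR : NoSolvNormal G) {n : ℕ}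
    (hn : n ≠ 0) (f : DihedralGroup n →* G) (hf : Function.Injective f) :
    n = 1 ∨ n = 2 ∨ n = 4 ∨ n = 8 ∨ ∃ ℓ, ℓ.Prime ∧ Odd ℓ ∧ (n = ℓ ∨ n = 2 * ℓ) := by
  haveI := NeZero.mk hn
  by_cases hodd : ∃ ℓ, ℓ.Prime ∧ ℓ ≠ 2 ∧ ℓ ∣ n
  · obtain ⟨ℓ, hl, hl2, hd⟩ := hodd
    haveI := Fact.mk hl
    refine Or.inr (Or.inr (Or.inr (Or.inr ⟨ℓ, hl, hl.odd_of_ne_two hl2, ?_⟩)))
    have h := hM.dihedral_odd hR f hf hl2 hd
    obtain ⟨c, rfl⟩ := hd
    rw [mul_comm 2 ℓ] at h
    rcases (Nat.dvd_prime Nat.prime_two).mp (Nat.dvd_of_mul_dvd_mul_left hl.pos h) with h1 | h1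
    · exact Or.inl (by rw [h1, mul_one])
    · exact Or.inr (by rw [h1, mul_comm])
  · obtain ⟨k, hk⟩ : ∃ k, n = 2 ^ k := ⟨_, Nat.eq_prime_pow_of_unique_prime_dvd hn
      fun {ℓ} hl hd => by_contra fun h2 => hodd ⟨ℓ, hl, h2, hd⟩⟩
    rcases Nat.lt_or_ge k 2 with h | h
    · interval_cases k <;> simp_all
    · have h8 := hM.dihedral_four hR f hf (hk ▸ pow_dvd_pow 2 h)
      have := Nat.le_of_dvd (by norm_num) h8
      have hk3 : k ≤ 3 := by
        by_contra h3
        have := Nat.pow_le_pow_right (show 0 < 2 by norm_num) (show 4 ≤ k by omega)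
        omega
      interval_cases k <;> simp_all

/-- Only four primes are left. -/
theorem four_primes {p n₁ : ℕ} (hp : p.Prime) (h5 : 5 ≤ p) (h1 : p = 2 * n₁ + 1)
    (c1 : n₁ = 1 ∨ n₁ = 2 ∨ n₁ = 4 ∨ n₁ = 8 ∨ ∃ ℓ, ℓ.Prime ∧ Odd ℓ ∧ (n₁ = ℓ ∨ n₁ = 2 * ℓ))
    (c2 : n₁ + 1 = 1 ∨ n₁ + 1 = 2 ∨ n₁ + 1 = 4 ∨ n₁ + 1 = 8 ∨
      ∃ ℓ, ℓ.Prime ∧ Odd ℓ ∧ (n₁ + 1 = ℓ ∨ n₁ + 1 = 2 * ℓ)) :
    p = 5 ∨ p = 7 ∨ p = 11 ∨ p = 13 := by
  have h3 : 3 < p := by omega
  have hp3 : p % 3 ≠ 0 := fun h => by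
    have := (Nat.prime_dvd_prime_iff_eq Nat.prime_three hp).mp (Nat.dvd_of_mod_eq_zero h)
    omega
  rcases c1 with h | h | h | h | ⟨ℓ, hl, hlo, h⟩
  · omega
  · omega
  · exfalso; omega
  · subst h
    rcases c2 with h | h | h | h | ⟨ℓ, hl, hlo, h⟩ <;> try omega
    rcases h with h | h
    · rw [← h] at hl; exact absurd hl (by norm_num)
    · omega
  · obtain ⟨a, rfl⟩ := hlo
    have hl3 : (2 * a + 1) % 3 = 0 → a = 1 := fun h => by
      have := (Nat.prime_dvd_prime_iff_eq Nat.prime_three hl).mp (Nat.dvd_of_mod_eq_zero h)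
      omega
    rcases c2 with h' | h' | h' | h' | ⟨m, hm, hmo, h'⟩ <;> try omega
    obtain ⟨b, rfl⟩ := hmo
    have hm3 : (2 * b + 1) % 3 = 0 → b = 1 := fun h => by
      have := (Nat.prime_dvd_prime_iff_eq Nat.prime_three hm).mp (Nat.dvd_of_mod_eq_zero h)
      omega
    obtain ⟨c, rfl | rfl | rfl⟩ : ∃ c, a = 3 * c ∨ a = 3 * c + 1 ∨ a = 3 * c + 2 := ⟨a / 3, by omega⟩ <;>
      obtain ⟨d, rfl | rfl | rfl⟩ : ∃ d, b = 3 * d ∨ b = 3 * d + 1 ∨ b = 3 * d + 2 := ⟨b / 3, by omega⟩ <;>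
        rcases h with h | h <;> rcases h' with h' | h' <;> omega

/-- The characteristic is `5`, `7`, `11` or `13`. -/
theorem MaxNormalizers.small_prime (hM : MaxNormalizers G) (hR : NoSolvNormal G) {T : Subgroup G}
    [T.Normal] (hodd : Odd (Fintype.card F)) (h5 : 5 ≤ Fintype.card F)
    (e : T ≃* Matrix.ProjectiveSpecialLinearGroup (Fin 2) F) :
    Fintype.card F = 5 ∨ Fintype.card F = 7 ∨ Fintype.card F = 11 ∨ Fintype.card F = 13 := by
  classical
  have hp := hM.prime_card hR hodd e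
  obtain ⟨m, hm⟩ := hodd
  have hd : Nat.gcd 2 (Fintype.card F - 1) = 2 := Nat.gcd_eq_left ⟨m, by omega⟩
  have cases : ∀ n, n ≠ 0 → (∃ x y : OnePoint (AlgebraicClosure F),
      Dickson.IsTorusPair (F := F) x y ∧ Nonempty (Dickson.pslPairN x y ≃* DihedralGroup n)) →
      n = 1 ∨ n = 2 ∨ n = 4 ∨ n = 8 ∨ ∃ ℓ, ℓ.Prime ∧ Odd ℓ ∧ (n = ℓ ∨ n = 2 * ℓ) := by
    rintro n hn ⟨x, y, -, ⟨i⟩⟩
    exact hM.torus_cases hR hn ((T.subtype.comp e.symm.toMonoidHom).comp
      ((Dickson.pslPairN x y).subtype.comp i.symm.toMonoidHom))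
      ((T.subtype_injective.comp e.symm.injective).comp
        ((Dickson.pslPairN x y).subtype_injective.comp i.symm.injective))
  have c1 := cases ((Fintype.card F - 1) / Nat.gcd 2 (Fintype.card F - 1)) (by rw [hd]; omega)
    Dickson.exists_pslPairN_rat
  have c2 := cases ((Fintype.card F + 1) / Nat.gcd 2 (Fintype.card F - 1)) (by rw [hd]; omega)
    Dickson.exists_pslPairN_quad
  rw [hd, show (Fintype.card F - 1) / 2 = m by omega] at c1
  rw [hd, show (Fintype.card F + 1) / 2 = m + 1 by omega] at c2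
  exact four_primes hp h5 hm c1 c2

end CfsgLib.MaxNorm
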