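import Cfsg.Agent.MaxNorm.PrimeField
import Cfsg.Agent.Dickson.MaxPoly
import Cfsg.Agent.Dickson.Thirteen
import Cfsg.Agent.AutPSL.Outer
import Cfsg.Agent.SL2.Klein

/-!
The small cases `q = 5, 7, 11` and the automorphism group for `q = 7, 11, 13`.
-/

set_option autoImplicit false

namespace CfsgLib.MaxNorm

open Matrix
open scoped MatrixGroups

local notation "PS" p:max => Matrix.ProjectiveSpecialLinearGroup (Fin 2) (ZMod p)

section General

variable {G H : Type*} [Group G] [Group H]

theorem NoSolvNormal.of_equiv (h : NoSolvNormal G) (e : G ≃* H) : NoSolvNormal H := by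
  intro N hN hs
  haveI := hs
  haveI : (N.comap e.toMonoidHom).Normal := hN.comap _
  have h1 : Group.IsSolvable (N.comap e.toMonoidHom) := solvable_of_solvable_injective
    (f := (e.toMonoidHom.comp (N.comap e.toMonoidHom).subtype).codRestrict N fun x => x.2)
    fun a b hab => Subtype.ext (e.injective (congrArg Subtype.val hab))
  have h2 := h _ inferInstance h1
  rw [← Subgroup.map_comap_eq_self_of_surjective (f := e.toMonoidHom) e.surjective N, h2,
    Subgroup.map_bot]

variable [Finite G]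

theorem card_mulAut_dvd_six {V : Type*} [Group V] [Finite V] (h : Nat.card V = 4) :
    Nat.card (MulAut V) ∣ 6 := by
  classical
  let f : MulAut V →* Equiv.Perm {v : V // v ≠ 1} :=
    { toFun := fun a => a.toEquiv.subtypeEquiv fun v => (EmbeddingLike.map_ne_one_iff (f := a)).symm
      map_one' := Equiv.ext fun v => rfl
      map_mul' := fun a b => Equiv.ext fun v => rfl }
  have hf : Function.Injective f := fun a b hab => MulEquiv.ext fun v => by
    by_cases hv : v = 1
    · rw [hv, map_one, map_one]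
    · exact congrArg Subtype.val (Equiv.congr_fun hab ⟨v, hv⟩)
  have h3 : Nat.card {v : V // v ≠ 1} = 3 := by
    haveI := Fintype.ofFinite V
    rw [Nat.card_eq_fintype_card, Fintype.card_subtype_compl, Fintype.card_subtype_eq,
      ← Nat.card_eq_fintype_card, h]
  have h6 : Nat.card (Equiv.Perm {v : V // v ≠ 1}) = 6 := by rw [Nat.card_perm, h3]; rfl
  exact h6 ▸ Subgroup.card_dvd_of_injective f hf

/-- An element of order prime to six normalising a four-group centralises it. -/
theorem comm_of_normalizer {V : Subgroup G} (hV : Nat.card V = 4) {y : G}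
    (hy : y ∈ Subgroup.normalizer (V : Set G)) (h6 : (orderOf y).Coprime 6) {v : G} (hv : v ∈ V) :
    Commute y v := by
  have h1 : orderOf (V.normalizerMonoidHom ⟨y, hy⟩) ∣ Nat.gcd (orderOf y) 6 :=
    Nat.dvd_gcd (by simpa using orderOf_map_dvd V.normalizerMonoidHom ⟨y, hy⟩)
      ((orderOf_dvd_natCard _).trans (card_mulAut_dvd_six hV))
  rw [h6.gcd_eq_one, Nat.dvd_one, orderOf_eq_one_iff] at h1
  have h2 := congrArg Subtype.val (MulEquiv.congr_fun h1 ⟨v, hv⟩)
  exact mul_inv_eq_iff_eq_mul.mp h2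

theorem MaxNormalizers.isCoatom_of_pGroup (hM : MaxNormalizers G) (hR : NoSolvNormal G) {p : ℕ}
    (hp : p.Prime) {Q : Subgroup G} (hQ : IsPGroup p Q) (hne : Q ≠ ⊥) :
    IsCoatom (Subgroup.normalizer (Q : Set G)) :=
  hM Q (not_isSubnormal_pGroup hR hp hQ hne) (biprimary_of_isPGroup hp hQ)

theorem ne_bot_of_card {Q : Subgroup G} {n : ℕ} (hQ : Nat.card Q = n) (hn : 1 < n) : Q ≠ ⊥ := by
  rintro rfl
  rw [Subgroup.card_bot] at hQ
  omega

end General

section Five

instance fact_prime_five_maxNorm : Fact (Nat.Prime 5) := ⟨by norm_num⟩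

/-- `q = 5` does not occur. -/
theorem MaxNormalizers.ne_five {G : Type*} [Group G] [Finite G] (hM : MaxNormalizers G)
    (hR : NoSolvNormal G) {T : Subgroup G} [T.Normal] (e : T ≃* PS 5) : False := by
  have h2 : (2 : ZMod 5) ≠ 0 := by decide
  haveI : Fact (Nat.Prime 2) := ⟨Nat.prime_two⟩
  let dd : Matrix.SpecialLinearGroup (Fin 2) (ZMod 5) := SL2.mk4 2 0 0 3 (by decide)
  let ww : Matrix.SpecialLinearGroup (Fin 2) (ZMod 5) := SL2.w
  let yy : Matrix.SpecialLinearGroup (Fin 2) (ZMod 5) := SL2.mk4 1 2 1 3 (by decide)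
  have htw : SL2.tr ww = 0 := SL2.tr_w
  set t := SL2.pmk ww
  set s := SL2.pmk dd
  set y := SL2.pmk yy
  have hts : t * s = s * t := by
    rw [← map_mul, ← map_mul, SL2.pmk_eq_iff]
    exact Or.inr (SL2.ext4 (by decide) (by decide) (by decide) (by decide))
  have hy1 : y * t * y⁻¹ = s := by
    rw [mul_inv_eq_iff_eq_mul, ← map_mul, ← map_mul, SL2.pmk_eq_iff]
    first
      | exact Or.inl (SL2.ext4 (by decide) (by decide) (by decide) (by decide))
      | exact Or.inr (SL2.ext4 (by decide) (by decide) (by decide) (by decide))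
  have hy2 : y * s * y⁻¹ = t * s := by
    rw [mul_inv_eq_iff_eq_mul, ← map_mul, ← map_mul, ← map_mul, SL2.pmk_eq_iff]
    first
      | exact Or.inl (SL2.ext4 (by decide) (by decide) (by decide) (by decide))
      | exact Or.inr (SL2.ext4 (by decide) (by decide) (by decide) (by decide))
  have hne : ∀ a b : Matrix.SpecialLinearGroup (Fin 2) (ZMod 5),
      a 0 0 ≠ b 0 0 → a 0 0 ≠ -(b 0 0) → SL2.pmk a ≠ SL2.pmk b := by
    intro a b h1 h3 h
    rcases SL2.pmk_eq_iff.mp h with h | h
    · exact h1 (by rw [h])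
    · exact h3 (by rw [h]; rfl)
  have hts' : t ≠ s := hne _ _ (by decide) (by decide)
  have hs1 : s ≠ 1 := by rw [← map_one SL2.pmk]; exact hne _ _ (by decide) (by decide)
  have ht1 : t ≠ 1 := by rw [← map_one SL2.pmk]; exact hne _ _ (by decide) (by decide)
  have hto : orderOf t = 2 := (SL2.orderOf_pmk_eq_two_iff h2).mpr htw
  have hso : orderOf s = 2 := (SL2.orderOf_pmk_eq_two_iff h2).mpr (by
    simp [SL2.tr, dd, Matrix.trace_fin_two]; decide)
  -- the centraliser of `t` is `⟨t, s⟩`
  have ht2 : t * t = 1 := by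
    have h := pow_orderOf_eq_one t
    rwa [hto, pow_two] at h
  have hs2 : s * s = 1 := by
    have h := pow_orderOf_eq_one s
    rwa [hso, pow_two] at h
  set V := SL2.vFour t s ht2 hs2 hts
  have hV4 : Nat.card V = 4 := (SL2.isKleinFour_vFour hto hso hts hts').card_four
  have hC : Subgroup.centralizer ({t} : Set (PS 5)) = V := by
    symm
    refine Subgroup.eq_of_le_of_card_ge ?_ ?_
    · intro g hg
      rw [Subgroup.mem_centralizer_singleton_iff]
      rcases hg with rfl | rfl | rfl | rfl
      · simp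
      · rfl
      · exact hts.symm
      · rw [mul_assoc, ← hts]
    · rw [hV4, SL2.card_centralizer_pmk h2 htw, (SL2.card_centralizer_tr_zero h2 htw).1 (by simp)]
      simp
  set f : PS 5 →* G := T.subtype.comp e.symm.toMonoidHom
  have hf : Function.Injective f := T.subtype_injective.comp e.symm.injective
  set X := Subgroup.zpowers (f t)
  set C := V.map f
  have hX : IsPGroup 2 X := isPGroup_zpowers_of_orderOf_eq (k := 1)
    (by rw [orderOf_injective f hf, hto, pow_one])
  have hXne : X ≠ ⊥ := fun h => ht1 (hf (by rw [Subgroup.zpowers_eq_bot.mp h, map_one]))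
  have hCc : Nat.card C = 4 := by rw [Subgroup.card_map_of_injective hf, hV4]
  have hC2 : IsPGroup 2 C := IsPGroup.of_card (n := 2) (by rw [hCc]; norm_num)
  have hmem : ∀ a : G, a ∈ C ↔ a ∈ T ∧ a * f t = f t * a := by
    intro a
    constructor
    · rintro ⟨v, hv, rfl⟩
      refine ⟨(e.symm v).2, ?_⟩
      rw [← hC, SetLike.mem_coe, Subgroup.mem_centralizer_singleton_iff] at hv
      rw [← map_mul, ← map_mul, hv]
    · rintro ⟨haT, hat⟩
      obtain ⟨v, rfl⟩ : ∃ v, f v = a := ⟨e ⟨a, haT⟩, by simp [f]⟩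
      refine ⟨v, ?_, rfl⟩
      rw [SetLike.mem_coe, ← hC, Subgroup.mem_centralizer_singleton_iff]
      exact hf (by rw [map_mul, map_mul, hat])
  have hcomm : ∀ g ∈ Subgroup.normalizer (X : Set G), g * f t * g⁻¹ = f t := by
    intro g hg
    have h1 := (Subgroup.mem_normalizer_iff.mp hg _).mp (Subgroup.mem_zpowers (f t))
    obtain ⟨k, hk : f t ^ k = _⟩ := mem_powers_iff_mem_zpowers.mpr h1
    have ho : f t ^ 2 = 1 := by rw [← map_pow, pow_two, ht2, map_one]
    rcases Nat.even_or_odd k with ⟨j, rfl⟩ | ⟨j, rfl⟩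
    · rw [← two_mul, pow_mul, ho, one_pow, eq_comm, conj_eq_one_iff] at hk
      exact absurd (hf (hk.trans (map_one f).symm)) ht1
    · rw [← hk, pow_succ, pow_mul, ho, one_pow, one_mul]
  have hconj : ∀ g ∈ Subgroup.normalizer (X : Set G), ∀ a ∈ C, g * a * g⁻¹ ∈ C := by
    intro g hg a ha
    rw [hmem] at ha ⊢
    refine ⟨Subgroup.Normal.conj_mem inferInstance a ha.1 g, ?_⟩
    have h := hcomm g hg
    calc g * a * g⁻¹ * f t = g * a * g⁻¹ * (g * f t * g⁻¹) := by rw [h]
      _ = g * (a * f t) * g⁻¹ := by group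
      _ = g * (f t * a) * g⁻¹ := by rw [ha.2]
      _ = g * f t * g⁻¹ * (g * a * g⁻¹) := by group
      _ = _ := by rw [h]
  have hle : Subgroup.normalizer (X : Set G) ≤ Subgroup.normalizer (C : Set G) := fun g hg =>
    Subgroup.mem_normalizer_iff.mpr fun a => ⟨hconj g hg a, fun ha => by
      simpa [mul_assoc] using hconj g⁻¹ (inv_mem hg) _ ha⟩
  have heq := hM.normalizer_eq_of_le (not_isSubnormal_pGroup hR Nat.prime_two hX hXne)
    (biprimary_of_isPGroup Nat.prime_two hX)
    (not_isSubnormal_pGroup hR Nat.prime_two hC2 (ne_bot_of_card hCc (by norm_num))) hle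
  have hyN : f y ∈ Subgroup.normalizer (C : Set G) := by
    have hVy : V.map (MulAut.conj y).toMonoidHom = V := by
      refine Subgroup.eq_of_le_of_card_ge ?_
        (Subgroup.card_map_of_injective (MulAut.conj y).injective).symm.le
      rintro _ ⟨v, hv, rfl⟩
      show y * v * y⁻¹ ∈ V
      have hs' : s ∈ V := Or.inr (Or.inr (Or.inl rfl))
      have ht' : t ∈ V := Or.inr (Or.inl rfl)
      rcases hv with rfl | rfl | rfl | rfl
      · simp
      · rw [hy1]; exact hs'
      · rw [hy2]; exact mul_mem ht' hs'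
      · rw [show y * (t * s) * y⁻¹ = (y * t * y⁻¹) * (y * s * y⁻¹) by group, hy1, hy2]
        exact mul_mem hs' (mul_mem ht' hs')
    refine Subgroup.le_normalizer_map f ⟨y, ?_, rfl⟩
    exact Subgroup.mem_normalizer_iff_map_conj_eq.mpr hVy
  rw [← heq] at hyN
  have := hcomm _ hyN
  rw [← map_mul, ← map_inv, ← map_mul, hy1] at this
  exact hts' (hf this).symm

end Five

section Seven

instance fact_prime_seven_maxNorm : Fact (Nat.Prime 7) := ⟨by norm_num⟩

/-- `G = PSL(2, 7)` does not occur. -/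
theorem ne_psl_seven (hM : MaxNormalizers (PS 7)) (hR : NoSolvNormal (PS 7)) : False := by
  have h2 : (2 : ZMod 7) ≠ 0 := by decide
  haveI : Fact (Nat.Prime 2) := ⟨Nat.prime_two⟩
  have hcard : Nat.card (PS 7) = 168 := by
    have h := Dickson.psl_two_mul_card (F := ZMod 7) (by rw [ZMod.card]; decide)
    rw [ZMod.card] at h
    omega
  obtain ⟨K, ⟨i⟩⟩ := Dickson.exists_psl_s4 (F := ZMod 7) h2 ⟨3, by decide⟩
  let z4 : Equiv.Perm (Fin 4) := Equiv.swap 0 1 * Equiv.swap 2 3
  set z : PS 7 := K.subtype (i.symm z4)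
  have hzo : orderOf z = 2 := by
    rw [orderOf_injective _ K.subtype_injective, MulEquiv.orderOf_eq]
    exact orderOf_eq_prime (by decide) (by decide)
  obtain ⟨g, hg⟩ := SL2.pmk_surjective z
  have htr := (SL2.orderOf_pmk_eq_two_iff h2).mp (hg ▸ hzo)
  have hC : Nat.card (Subgroup.centralizer ({z} : Set (PS 7))) = 8 := by
    rw [← hg, SL2.card_centralizer_pmk h2 htr, (SL2.card_centralizer_tr_zero h2 htr).2 (by simp)]
    simp
  have hCK : Subgroup.centralizer ({z} : Set (PS 7)) ≤ K := by
    have h8 : Nat.card (Subgroup.centralizer ({z4} : Set (Equiv.Perm (Fin 4)))) = 8 := by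
      rw [Nat.card_congr (Equiv.subtypeEquivRight (q := fun x => x * z4 = z4 * x)
        fun x => Subgroup.mem_centralizer_singleton_iff), Nat.card_eq_fintype_card]
      decide
    have hle : (Subgroup.centralizer ({z4} : Set (Equiv.Perm (Fin 4)))).map
        (K.subtype.comp i.symm.toMonoidHom) ≤ Subgroup.centralizer ({z} : Set (PS 7)) := by
      rintro _ ⟨x, hx, rfl⟩
      rw [SetLike.mem_coe, Subgroup.mem_centralizer_singleton_iff] at hx
      rw [Subgroup.mem_centralizer_singleton_iff]
      show K.subtype (i.symm x) * K.subtype (i.symm z4) = _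
      rw [← map_mul, ← map_mul, hx, map_mul, map_mul]
      rfl
    rw [← Subgroup.eq_of_le_of_card_ge hle (by
      rw [hC, Subgroup.card_map_of_injective (f := K.subtype.comp i.symm.toMonoidHom)
        (K.subtype_injective.comp i.symm.injective), h8])]
    rintro _ ⟨x, -, rfl⟩
    exact (i.symm x).2
  have hN : Subgroup.normalizer (Subgroup.zpowers z : Set (PS 7)) ≤
      Subgroup.centralizer ({z} : Set (PS 7)) := by
    intro x hx
    rw [Subgroup.mem_centralizer_singleton_iff]
    have h1 := (Subgroup.mem_normalizer_iff.mp hx _).mp (Subgroup.mem_zpowers z)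
    obtain ⟨k, hk : z ^ k = _⟩ := mem_powers_iff_mem_zpowers.mpr h1
    have hz2 : z ^ 2 = 1 := by
      have h := pow_orderOf_eq_one z
      rwa [hzo] at h
    rcases Nat.even_or_odd k with ⟨j, rfl⟩ | ⟨j, rfl⟩
    · rw [← two_mul, pow_mul, hz2, one_pow, eq_comm, conj_eq_one_iff] at hk
      rw [hk, orderOf_one] at hzo
      norm_num at hzo
    · rw [pow_succ, pow_mul, hz2, one_pow, one_mul] at hk
      exact (eq_mul_inv_iff_mul_eq.mp hk).symm
  have hco := hM.isCoatom_of_pGroup hR Nat.prime_two
    (isPGroup_zpowers_of_orderOf_eq (k := 1) (by rw [hzo, pow_one]))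
    (fun h => by rw [Subgroup.zpowers_eq_bot.mp h, orderOf_one] at hzo; norm_num at hzo)
  have hK : Nat.card K = 24 := by
    rw [Nat.card_congr i.toEquiv, Nat.card_perm, Nat.card_fin]; rfl
  have hlt : Subgroup.normalizer (Subgroup.zpowers z : Set (PS 7)) < K := by
    refine lt_of_le_of_ne (hN.trans hCK) fun h => ?_
    have := Subgroup.card_le_of_le hN
    rw [h, hK, hC] at this
    omega
  have := hco.2 K hlt
  rw [this, Subgroup.card_top, hcard] at hK
  omega

end Seven

section Eleven

instance fact_prime_eleven_maxNorm : Fact (Nat.Prime 11) := ⟨by norm_num⟩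

/-- `G = PSL(2, 11)` does not occur. -/
theorem ne_psl_eleven (hM : MaxNormalizers (PS 11)) (hR : NoSolvNormal (PS 11)) : False := by
  have h2 : (2 : ZMod 11) ≠ 0 := by decide
  haveI : Fact (Nat.Prime 2) := ⟨Nat.prime_two⟩
  have hcard : Nat.card (PS 11) = 660 := by
    have h := Dickson.psl_two_mul_card (F := ZMod 11) (by rw [ZMod.card]; decide)
    rw [ZMod.card] at h
    omega
  obtain ⟨K, ⟨i⟩⟩ := Dickson.exists_psl_a5_of_odd (F := ZMod 11) h2 (by rw [ZMod.card]; norm_num)
  obtain ⟨a4, ha4⟩ := Dickson.exists_alt_four_hom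
  let a : alternatingGroup (Fin 4) :=
    ⟨Equiv.swap 0 1 * Equiv.swap 2 3, Equiv.Perm.mem_alternatingGroup.mpr (by decide)⟩
  let b : alternatingGroup (Fin 4) :=
    ⟨Equiv.swap 0 2 * Equiv.swap 1 3, Equiv.Perm.mem_alternatingGroup.mpr (by decide)⟩
  let j : alternatingGroup (Fin 4) →* PS 11 := K.subtype.comp (i.symm.toMonoidHom.comp a4)
  have hj : Function.Injective j := K.subtype_injective.comp (i.symm.injective.comp ha4)
  let V4 := SL2.vFour a b (by decide) (by decide) (show a * b = b * a by decide)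
  have hV4 : Nat.card V4 = 4 :=
    (SL2.isKleinFour_vFour (orderOf_eq_prime (by decide) (by decide))
      (orderOf_eq_prime (by decide) (by decide)) (show a * b = b * a by decide) (by decide)).card_four
  set V := V4.map j
  have hV : Nat.card V = 4 := by rw [Subgroup.card_map_of_injective hj, hV4]
  have hrange : j.range ≤ Subgroup.normalizer (V : Set (PS 11)) := by
    rintro _ ⟨x, rfl⟩
    refine Subgroup.le_normalizer_map j ⟨x, ?_, rfl⟩
    refine Subgroup.mem_normalizer_iff_map_conj_eq.mpr (Subgroup.eq_of_le_of_card_ge ?_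
      (Subgroup.card_map_of_injective (MulAut.conj x).injective).symm.le)
    rintro _ ⟨v, hv, rfl⟩
    show x * v * x⁻¹ ∈ V4
    have key : ∀ x : alternatingGroup (Fin 4), ∀ v : alternatingGroup (Fin 4),
        (v = 1 ∨ v = a ∨ v = b ∨ v = a * b) →
        (x * v * x⁻¹ = 1 ∨ x * v * x⁻¹ = a ∨ x * v * x⁻¹ = b ∨ x * v * x⁻¹ = a * b) := by decide
    exact key x v hv
  have h12 : Nat.card j.range = 12 := by
    rw [← Nat.card_congr (MonoidHom.ofInjective hj).toEquiv, nat_card_alternatingGroup, Nat.card_fin]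
    rfl
  have hco := hM.isCoatom_of_pGroup hR Nat.prime_two
    (IsPGroup.of_card (n := 2) (by rw [hV]; norm_num)) (ne_bot_of_card hV (by norm_num))
  set N := Subgroup.normalizer (V : Set (PS 11))
  have hN : Nat.card N = 12 := by
    have hd : Nat.card N ∣ 660 := hcard ▸ Subgroup.card_subgroup_dvd_card N
    have hd12 : 12 ∣ Nat.card N := h12 ▸ Subgroup.card_dvd_of_le hrange
    have hno : ∀ ℓ : ℕ, ℓ.Prime → ℓ ∣ Nat.card N → (ℓ = 5 ∨ ℓ = 11) → False := by
      intro ℓ hl hd hl'
      haveI := Fact.mk hl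
      obtain ⟨⟨y, hy⟩, hyo⟩ := exists_prime_orderOf_dvd_card' ℓ hd
      rw [Subgroup.orderOf_mk] at hyo
      have hc := comm_of_normalizer hV hy (by rw [hyo]; rcases hl' with rfl | rfl <;> decide)
        (show j a ∈ V from ⟨a, Or.inr (Or.inl rfl), rfl⟩)
      have hao : orderOf (j a) = 2 := by
        rw [orderOf_injective j hj]; exact orderOf_eq_prime (by decide) (by decide)
      have ho : orderOf (y * j a) = ℓ * 2 := by
        rw [hc.orderOf_mul_eq_mul_orderOf_of_coprime (by
          rw [hyo, hao]; rcases hl' with rfl | rfl <;> decide), hyo, hao]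
      rcases Dickson.psl_pow_eq_one_cases 11 (y * j a) with h | h | h <;>
        · have hd := orderOf_dvd_of_pow_eq_one h
          rw [ho] at hd
          first | rw [ZMod.card] at hd | skip
          rcases hl' with rfl | rfl <;> revert hd <;> norm_num
    obtain ⟨k, hk⟩ := hd12
    rw [hk] at hd hno
    have hk55 : k ∣ 55 := Nat.dvd_of_mul_dvd_mul_left (by norm_num : 0 < 12) (by simpa using hd)
    by_cases h1 : k = 1
    · rw [hk, h1]
    · exfalso
      obtain ⟨ℓ, hl, hlk⟩ := Nat.exists_prime_and_dvd h1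
      refine hno ℓ hl (dvd_mul_of_dvd_right hlk 12) ?_
      have h55 : ℓ ∣ 5 * 11 := hlk.trans hk55
      rcases hl.dvd_mul.mp h55 with h | h
      · exact Or.inl ((Nat.prime_dvd_prime_iff_eq hl (by norm_num)).mp h)
      · exact Or.inr ((Nat.prime_dvd_prime_iff_eq hl (by norm_num)).mp h)
  have hNK : N ≤ K := by
    rw [← Subgroup.eq_of_le_of_card_ge hrange (by rw [hN, h12])]
    rintro _ ⟨x, rfl⟩
    exact (i.symm (a4 x)).2
  have hK : Nat.card K = 60 := by
    rw [Nat.card_congr i.toEquiv, nat_card_alternatingGroup, Nat.card_fin]; rfl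
  have := hco.2 K (lt_of_le_of_ne hNK fun h => by rw [h] at hN; omega)
  rw [this, Subgroup.card_top, hcard] at hK
  omega

end Eleven

end CfsgLib.MaxNorm
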