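import Cfsg.Agent.MaxNorm.Noncentral
import Cfsg.Agent.MinNormal.Structure
import Cfsg.Agent.Cores.GenFitting

/-!
The socle of a group with maximal normalisers of biprimary subgroups is simple.
-/

set_option autoImplicit false
set_option linter.style.haveILetI false
set_option linter.unusedSectionVars false

namespace CfsgLib.MaxNorm

open Subgroup
open scoped commutatorElement

variable {G : Type*} [Group G] [Finite G]

theorem exists_odd_prime_of_not_two_group {H : Subgroup G} (h : ¬ IsPGroup 2 H) :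
    ∃ x ∈ H, (orderOf x).Prime ∧ Odd (orderOf x) := by
  haveI : Fact (Nat.Prime 2) := ⟨Nat.prime_two⟩
  rw [IsPGroup.iff_orderOf] at h
  push Not at h
  obtain ⟨⟨a, ha⟩, hk⟩ := h
  obtain ⟨k, m, hm, he⟩ := Nat.exists_eq_two_pow_mul_odd (orderOf_pos a).ne'
  have hao : orderOf (a ^ 2 ^ k) = m := by
    rw [orderOf_pow_of_dvd (by positivity) (he ▸ dvd_mul_right _ _), he,
      Nat.mul_div_cancel_left _ (by positivity)]
  have hne : a ^ 2 ^ k ≠ 1 := fun e => by
    rw [e, orderOf_one] at hao
    exact hk k (by rw [Subgroup.orderOf_mk, he, ← hao, mul_one])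
  obtain ⟨r, hr, hr2, i, hi⟩ := exists_odd_prime_pow (hao.symm ▸ hm) hne
  exact ⟨_, pow_mem (pow_mem ha _) i, hi ▸ hr, hi ▸ hr.odd_of_ne_two hr2⟩

theorem exists_central_involution_inf {S : Sylow 2 G} (T : Subgroup G) [T.Normal] {t : G}
    (htS : t ∈ (S : Subgroup G)) (htT : t ∈ T) (ht1 : t ≠ 1) :
    ∃ z, z ∈ (S : Subgroup G) ∧ z ∈ T ∧ orderOf z = 2 ∧
      ∀ y ∈ (S : Subgroup G), y * z = z * y := by
  haveI : Fact (Nat.Prime 2) := ⟨Nat.prime_two⟩
  haveI : Nontrivial (T.subgroupOf (S : Subgroup G)) := by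
    refine ⟨⟨⟨⟨t, htS⟩, htT⟩, 1, fun e => ht1 ?_⟩⟩
    exact congrArg (fun a => ((a.1 : (S : Subgroup G)) : G)) e
  obtain ⟨c, hc⟩ := exists_prime_orderOf_dvd_card'
    (G := (T.subgroupOf (S : Subgroup G) ⊓ Subgroup.center (S : Subgroup G) : Subgroup _)) 2 (by
      have hne := CfsgLib.PGroup.inf_center_ne_bot S.2 (T.subgroupOf (S : Subgroup G))
        (nontrivial_iff_ne_bot _ |>.mp inferInstance)
      obtain ⟨n, hn⟩ := IsPGroup.iff_card.mp
        (S.2.to_subgroup (T.subgroupOf (S : Subgroup G) ⊓ Subgroup.center (S : Subgroup G)))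
      rcases n with - | n
      · exact absurd (Subgroup.card_eq_one.mp (by simpa using hn)) hne
      · exact hn ▸ dvd_pow_self 2 (Nat.succ_ne_zero n))
  refine ⟨(c.1 : (S : Subgroup G)), c.1.2, c.2.1, ?_, fun y hy => ?_⟩
  · rw [Subgroup.orderOf_coe, Subgroup.orderOf_coe]; exact hc
  · exact congrArg Subtype.val (Subgroup.mem_center_iff.mp c.2.2 ⟨y, hy⟩)

variable (hM : MaxNormalizers G) (hR : NoSolvNormal G)
include hM hR

/-- Involution centralisers are solvable. -/
theorem isSolvable_cen {t : G} (ht : orderOf t = 2) : Group.IsSolvable (Cen t) := by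
  haveI : Fact (Nat.Prime 2) := ⟨Nat.prime_two⟩
  set D := commutator (Cen t) with hDdef
  have hD : ∀ a : Cen t, Odd (orderOf a) → ∀ d ∈ D, d * a = a * d := by
    intro a ha d hd
    have hn : (Subgroup.zpowers (a : G)).subgroupOf (Cen t) = Subgroup.zpowers a := by
      ext b
      simp only [Subgroup.mem_subgroupOf, Subgroup.mem_zpowers_iff]
      exact exists_congr fun i => by rw [← Subgroup.coe_zpow, SetLike.coe_eq_coe]
    have hnorm : (Subgroup.zpowers a).Normal := by
      refine ⟨fun b hb g => ?_⟩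
      have ha' : Odd (orderOf (a : G)) := by rwa [Subgroup.orderOf_coe]
      obtain ⟨i, rfl⟩ := Subgroup.mem_zpowers_iff.mp hb
      rw [← conj_zpow]
      refine zpow_mem ?_ i
      rw [← hn, Subgroup.mem_subgroupOf]
      exact conj_mem_zpowers hM hR ht ha' (mem_cen.mp a.2) (mem_cen.mp g.2)
    let f : Cen t →* MulAut (Subgroup.zpowers a) :=
      haveI := hnorm
      MulAut.conjNormal (H := Subgroup.zpowers a)
    have hcomm : ∀ p q : MulAut (Subgroup.zpowers a), p * q = q * p := by
      intro p q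
      refine (IsCyclic.mulAutMulEquiv (G := Subgroup.zpowers a)).injective ?_
      rw [map_mul, map_mul, mul_comm]
    have hker : D ≤ f.ker := by
      rw [hDdef, commutator_eq_closure, Subgroup.closure_le]
      rintro _ ⟨p, q, rfl⟩
      rw [SetLike.mem_coe, MonoidHom.mem_ker, map_commutatorElement, commutatorElement_def,
        hcomm (f p), mul_inv_cancel_right, mul_inv_cancel]
    have h1 := congrArg Subtype.val
      (DFunLike.congr_fun (MonoidHom.mem_ker.mp (hker hd)) ⟨a, Subgroup.mem_zpowers a⟩)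
    exact mul_inv_eq_iff_eq_mul.mp h1
  have hquot : IsPGroup 2 (D ⧸ Subgroup.center D) := by
    intro q
    obtain ⟨d, rfl⟩ := QuotientGroup.mk'_surjective _ q
    obtain ⟨k, m, hm, he⟩ := Nat.exists_eq_two_pow_mul_odd (orderOf_pos d).ne'
    refine ⟨k, ?_⟩
    rw [← map_pow, QuotientGroup.mk'_apply, QuotientGroup.eq_one_iff, Subgroup.mem_center_iff]
    intro b
    refine Subtype.ext ?_
    refine hD _ ?_ b b.2
    rw [Subgroup.orderOf_coe, orderOf_pow_of_dvd (by positivity) (he ▸ dvd_mul_right _ _), he,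
      Nat.mul_div_cancel_left _ (by positivity)]
    exact hm
  haveI : Group.IsNilpotent D := Group.of_quotient_center_nilpotent hquot.isNilpotent
  haveI : Group.IsSolvable D := inferInstance
  haveI : Group.IsSolvable (Cen t ⧸ D) := Group.isSolvable_of_comm fun p q => by
    obtain ⟨p, rfl⟩ := QuotientGroup.mk_surjective p
    obtain ⟨q, rfl⟩ := QuotientGroup.mk_surjective q
    refine QuotientGroup.eq.mpr ?_
    rw [show (p * q)⁻¹ * (q * p) = ⁅q⁻¹, p⁻¹⁆ by rw [commutatorElement_def]; group]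
    exact Subgroup.commutator_mem_commutator (Subgroup.mem_top _) (Subgroup.mem_top _)
  exact (Group.isSolvable_iff_subgroup_quotient D).mpr ⟨inferInstance, inferInstance⟩

/-- There is a simple normal subgroup with trivial centraliser. -/
theorem exists_socle [Nontrivial G] :
    ∃ T : Subgroup G, T.Normal ∧ IsSimpleGroup T ∧ ¬ Group.IsSolvable T ∧
      Subgroup.centralizer (T : Set G) = ⊥ := by
  classical
  haveI : Fact (Nat.Prime 2) := ⟨Nat.prime_two⟩
  obtain ⟨L, ⟨hLn, hLne⟩, hLmin⟩ := (Set.toFinite {N : Subgroup G | N.Normal ∧ N ≠ ⊥}).exists_minimal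
    ⟨⊤, inferInstance, top_ne_bot⟩
  haveI := hLn
  have hLs : ¬ Group.IsSolvable L := fun h => hLne (hR L hLn h)
  obtain ⟨T0, _, m, hT0, hm, hTc, ⟨e⟩⟩ :=
    (CfsgLib.MinNormal.IsMinNormal.mk hLn hLne fun M hMn hle => by
      by_cases hb : M = ⊥
      · exact Or.inl hb
      · exact Or.inr (le_antisymm hle (hLmin ⟨hMn, hb⟩ hle))).exists_mulEquiv_pi
  let single : ∀ i : Fin m, T0 →* L := fun i =>
    e.symm.toMonoidHom.comp (MonoidHom.mulSingle (fun _ => T0) i)
  have hinj : ∀ i, Function.Injective (single i) := fun i =>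
    e.symm.injective.comp (Pi.mulSingle_injective (M := fun _ : Fin m => T0) i)
  haveI : Finite T0 := Finite.of_injective _ (hinj ⟨0, hm⟩)
  have hT0s : ¬ Group.IsSolvable T0 := by
    intro h
    have hc : IsMulCommutative L := hTc ⟨⟨IsSimpleGroup.comm_iff_isSolvable.mpr h⟩⟩
    exact hLs (Group.isSolvable_of_comm fun a b => hc.is_comm.comm a b)
  obtain ⟨t0, ht0⟩ : ∃ t0 : T0, orderOf t0 = 2 := by
    refine exists_prime_orderOf_dvd_card' 2 ?_
    by_contra h2
    exact hT0s (Cfsg.Agent.S0205.result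
      (by rwa [← Nat.not_even_iff_odd, even_iff_two_dvd]))
  set t : G := ((single ⟨0, hm⟩ t0 : L) : G) with ht
  have ht2 : orderOf t = 2 := by
    rw [ht, Subgroup.orderOf_coe, orderOf_injective _ (hinj _), ht0]
  haveI hsol := isSolvable_cen hM hR ht2
  have hm1 : m = 1 := by
    by_contra hne
    let f : T0 →* G := L.subtype.comp (single ⟨1, by omega⟩)
    have hf : ∀ a, f a ∈ Cen t := fun a => mem_cen.mpr (by
      have hc : Commute (Pi.mulSingle (M := fun _ : Fin m => T0) ⟨1, by omega⟩ a)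
          (Pi.mulSingle (M := fun _ : Fin m => T0) ⟨0, hm⟩ t0) :=
        Pi.mulSingle_commute (f := fun _ : Fin m => T0) (i := ⟨1, by omega⟩) (j := ⟨0, hm⟩) (by simp) a t0
      exact congrArg Subtype.val ((hc.map e.symm.toMonoidHom).eq))
    exact hT0s (Group.isSolvable_of_isSolvable_injective (f := f.codRestrict (Cen t) hf)
      (fun a b h => hinj ⟨1, by omega⟩ (L.subtype_injective (congrArg (fun y : Cen t => (y : G)) h))))
  subst hm1
  have hL : IsSimpleGroup L :=
    CfsgLib.MinNormal.isSimpleGroup_congr (e.trans (MulEquiv.funUnique (Fin 1) T0)).symm hT0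
  refine ⟨L, hLn, hL, hLs, ?_⟩
  haveI := hL
  have hCn : (Subgroup.centralizer (L : Set G)).Normal := inferInstance
  refine hR _ hCn ?_
  have hle : Subgroup.centralizer (L : Set G) ≤ Cen t := fun y hy =>
    mem_cen.mpr (Subgroup.mem_centralizer_iff.mp hy t (single ⟨0, hm⟩ t0).2).symm
  exact Group.isSolvable_of_isSolvable_injective (f := Subgroup.inclusion hle)
    (Subgroup.inclusion_injective hle)

end CfsgLib.MaxNorm
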